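import Groth.Agent.Lib.WittHom23.Basic
import Groth.Agent.Lib.Amitsur12.Basic
import Groth.Agent.Lib.TorsTriv25.Ring
import Mathlib.RingTheory.WittVector.Teichmuller

/-!
# Witt vector valued Amitsur cocycles are coboundaries
-/

set_option autoImplicit false

universe u

open TensorProduct
open Groth.Agent.TorsTriv25 (q0 q1 pair01 pair12 pair02)

noncomputable section

namespace Groth.Agent.WittExt23

variable {A B : Type u} [CommRing A] [CommRing B] [Algebra A B] [Module.FaithfullyFlat A B]

theorem exists_coboundary_add (θ : B ⊗[A] B) (h : pair01 θ + pair12 θ = pair02 θ) :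
    ∃ b : B, q1 (A := A) b - q0 (A := A) b = θ := by
  obtain ⟨z, hz⟩ := (Amitsur12.exact_one A B A ((1 : A) ⊗ₜ[A] θ)).1 (by
    simp only [LinearMap.add_apply, LinearMap.sub_apply, LinearMap.lTensor_tmul, AlgHom.toLinearMap_apply]
    rw [← TensorProduct.tmul_sub, ← TensorProduct.tmul_add]
    show (1 : A) ⊗ₜ[A] (pair12 θ - pair02 θ + pair01 θ) = 0
    rw [← h]
    simp)
  refine ⟨TensorProduct.lid A B z, ?_⟩
  have := congrArg (TensorProduct.lid A (B ⊗[A] B)) hz
  rw [TensorProduct.lid_tmul, one_smul] at this
  rw [← this, show z = (1 : A) ⊗ₜ[A] TensorProduct.lid A B z from ((TensorProduct.lid A B).symm_apply_apply z).symm.trans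
    (TensorProduct.lid_symm_apply _)]
  simp [TensorProduct.tmul_sub]

variable (p : ℕ) [hp : Fact p.Prime]

omit [CommRing A] [Algebra A B] [Module.FaithfullyFlat A B] in
theorem coeff_zero_add {R : Type u} [CommRing R] {n : ℕ} (x y : TruncatedWittVector p (n + 1) R) :
    (x + y).coeff 0 = x.coeff 0 + y.coeff 0 := by
  obtain ⟨X, rfl⟩ := WittVector.truncate_surjective p (n + 1) R x
  obtain ⟨Y, rfl⟩ := WittVector.truncate_surjective p (n + 1) R y
  rw [← map_add, WittVector.coeff_truncate, WittVector.coeff_truncate, WittVector.coeff_truncate]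
  exact WittVector.add_coeff_zero X Y

/-- The first component as an additive map. -/
def head {R : Type u} [CommRing R] {n : ℕ} : TruncatedWittVector p (n + 1) R →+ R :=
  AddMonoidHom.mk' (fun x => x.coeff 0) (coeff_zero_add p)

theorem head_truncMap {R R' : Type u} [CommRing R] [CommRing R'] {n : ℕ} (f : R →+* R') (x : TruncatedWittVector p (n + 1) R) :
    head p (WittGrp.truncMap p (n + 1) f x) = f (head p x) := WittGrp.coeff_truncMap p _ f x 0

theorem exists_shift_of_head {R : Type u} [CommRing R] {n : ℕ} {x : TruncatedWittVector p (n + 1) R} (hx : head p x = 0) :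
    ∃ x', WittGrp.shift p (Nat.le_add_right n 1) x' = x :=
  WittHom23.exists_shift_eq p _ x fun i hi => by
    rw [show i = (0 : Fin (n + 1)) from Fin.ext (by simp at hi ⊢; omega)]
    exact hx

theorem head_teich {R : Type u} [CommRing R] {n : ℕ} (a : R) :
    head p (WittVector.truncate (n + 1) (WittVector.teichmuller p a)) = a := by
  show (WittVector.truncate (n + 1) (WittVector.teichmuller p a)).coeff 0 = a
  rw [WittVector.coeff_truncate]
  exact WittVector.teichmuller_coeff_zero _ _

theorem exists_coboundary : ∀ (n : ℕ) (c : TruncatedWittVector p n (B ⊗[A] B)),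
    WittGrp.truncMap p n (pair01 (A := A) (B := B)).toRingHom c + WittGrp.truncMap p n (pair12 (A := A) (B := B)).toRingHom c =
        WittGrp.truncMap p n (pair02 (A := A) (B := B)).toRingHom c →
      ∃ y : TruncatedWittVector p n B,
        WittGrp.truncMap p n (q1 (A := A)).toRingHom y - WittGrp.truncMap p n (q0 (A := A)).toRingHom y = c
  | 0, c, _ => ⟨0, TruncatedWittVector.ext fun i => i.elim0⟩
  | n + 1, c, h => by
    have h0 := congrArg (head p) h
    rw [map_add, head_truncMap, head_truncMap, head_truncMap] at h0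
    obtain ⟨b, hb⟩ := exists_coboundary_add (head p c) h0
    set b' := WittVector.truncate (n + 1) (WittVector.teichmuller p b)
    obtain ⟨δ, hδdef⟩ : ∃ δ, δ = WittGrp.truncMap p (n + 1) (q1 (A := A) (B := B)).toRingHom b' -
      WittGrp.truncMap p (n + 1) (q0 (A := A) (B := B)).toRingHom b' := ⟨_, rfl⟩
    have hδ : WittGrp.truncMap p (n + 1) (pair01 (A := A) (B := B)).toRingHom δ +
        WittGrp.truncMap p (n + 1) (pair12 (A := A) (B := B)).toRingHom δ =
        WittGrp.truncMap p (n + 1) (pair02 (A := A) (B := B)).toRingHom δ := by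
      simp only [hδdef, map_sub, ← RingHom.comp_apply, ← WittGrp.truncMap_comp, AlgHom.toRingHom_eq_coe,
        ← AlgHom.comp_toRingHom, TorsTriv25.pair01_q0, TorsTriv25.pair01_q1, TorsTriv25.pair02_q0, TorsTriv25.pair02_q1]
      show _ + (WittGrp.truncMap p (n + 1) (TorsTriv25.p2 (A := A) (B := B)).toRingHom b' -
        WittGrp.truncMap p (n + 1) (TorsTriv25.p1 (A := A) (B := B)).toRingHom b') = _
      simp only [AlgHom.toRingHom_eq_coe]
      abel
    have hzero : head p (c - δ) = 0 := by
      rw [hδdef, map_sub, map_sub, head_truncMap, head_truncMap, head_teich]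
      exact sub_eq_zero.2 hb.symm
    obtain ⟨c', hc'⟩ := exists_shift_of_head p hzero
    obtain ⟨y, hy⟩ := exists_coboundary n c' (WittHom23.shift_injective p (Nat.le_add_right n 1) (by
      rw [map_add, ← WittGrp.truncMap_shift, ← WittGrp.truncMap_shift, ← WittGrp.truncMap_shift, hc', map_sub, map_sub,
        map_sub, sub_add_sub_comm, h, hδ]))
    refine ⟨b' + WittGrp.shift p (Nat.le_add_right n 1) y, ?_⟩
    rw [map_add, map_add, WittGrp.truncMap_shift, WittGrp.truncMap_shift, add_sub_add_comm, ← map_sub, hy, hc',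
      ← hδdef, add_sub_cancel]

end Groth.Agent.WittExt23
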