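import Groth.Agent.Lib.WittExt23.Amitsur
import Groth.Prelude.Def_AlgGrp
import Mathlib.AlgebraicGeometry.Sites.Fpqc
import Mathlib.AlgebraicGeometry.Morphisms.Descent
import Mathlib.Algebra.Category.Ring.Constructions

/-!
# Flat surjective homomorphisms with Witt kernel onto affine groups have sections
-/

set_option autoImplicit false

universe u

open CategoryTheory CategoryTheory.Limits AlgebraicGeometry MonObj MonoidalCategory CartesianMonoidalCategory TensorProduct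
open Groth.Agent.TorsTriv25 (q0 q1 pair01 pair12 pair02)

noncomputable section

namespace Groth.Agent.WittExt23

variable {p : ℕ} [hp : Fact p.Prime] {S : Scheme.{u}} {E Q : Over S} [GrpObj E] [GrpObj Q] {m : ℕ}

/-- The spectrum of a ring as a scheme over `S`. -/
abbrev specOver (U : Over S) {B C : CommRingCat.{u}} (e : Spec B ⟶ U.left) (f : B ⟶ C) : Over S :=
  Over.mk (Spec.map f ≫ e ≫ U.hom)

/-- Sections of a flat surjective homomorphism with kernel a Witt group. -/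
theorem exists_section [IsCommMonObj E] (i : WittGrp.W p m S ⟶ E) [IsMonHom i] (π : E ⟶ Q) [IsMonHom π]
    (hker : AlgGrp.IsKernel i π) [Flat π.left] [Surjective π.left] [IsAffine Q.left] [CompactSpace E.left] :
    ∃ s : Q ⟶ E, s ≫ π = 𝟙 Q := by
  haveI : IsSplitMono (η[Q]) := IsSplitMono.mk' ⟨toUnit _, toUnit_unique _ _⟩
  haveI : Mono i := hker.mono_fst_of_mono
  obtain ⟨Y, r, hr, hrflat, hY⟩ := Scheme.exists_hom_isAffine_of_isZariskiLocalAtSource (P := @Flat) E.left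
  haveI := hr
  haveI : Flat r := hrflat
  let B := Γ(Y, ⊤)
  let A := Γ(Q.left, ⊤)
  let uS : Spec B ⟶ E.left := Y.isoSpec.inv ≫ r
  let U : Over S := Over.mk (uS ≫ E.hom)
  let u : U ⟶ E := Over.homMk uS rfl
  let v : U ⟶ Q := u ≫ π
  let φ : A ⟶ B := Spec.preimage (v.left ≫ Q.left.isoSpec.hom)
  have hv : v.left = Spec.map φ ≫ Q.left.isoSpec.inv := by
    rw [Spec.map_preimage, Category.assoc, Iso.hom_inv_id, Category.comp_id]
  haveI : Flat (Spec.map φ) := by
    rw [Spec.map_preimage]; show Flat ((uS ≫ π.left) ≫ Q.left.isoSpec.hom); infer_instance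
  haveI : Surjective (Spec.map φ) := by
    rw [Spec.map_preimage]; show Surjective ((uS ≫ π.left) ≫ Q.left.isoSpec.hom); infer_instance
  algebraize [φ.hom]
  haveI hff : Module.FaithfullyFlat A B :=
    (flat_and_surjective_SpecMap_iff φ).1 ⟨inferInstance, inferInstance⟩
  -- the double intersection
  let T2 : Over S := Over.mk (Spec.map (CommRingCat.ofHom (q0 (A := A) (B := B)).toRingHom) ≫ U.hom)
  have hq : CommRingCat.ofHom (algebraMap A B) ≫ CommRingCat.ofHom (q0 (A := A) (B := B)).toRingHom =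
      CommRingCat.ofHom (algebraMap A B) ≫ CommRingCat.ofHom (q1 (A := A) (B := B)).toRingHom := by
    rw [← CommRingCat.ofHom_comp, ← CommRingCat.ofHom_comp]
    congr 1
    exact (q0 (A := A) (B := B)).comp_algebraMap.trans (q1 (A := A) (B := B)).comp_algebraMap.symm
  have hφ : φ = CommRingCat.ofHom (algebraMap A B) := rfl
  let j0' : Spec (CommRingCat.of (B ⊗[A] B)) ⟶ Spec B := Spec.map (CommRingCat.ofHom (q0 (A := A) (B := B)).toRingHom)
  let j1' : Spec (CommRingCat.of (B ⊗[A] B)) ⟶ Spec B := Spec.map (CommRingCat.ofHom (q1 (A := A) (B := B)).toRingHom)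
  have hj' : j0' ≫ v.left = j1' ≫ v.left := by
    rw [hv, hφ, ← Spec.map_comp_assoc, ← Spec.map_comp_assoc, hq]
  let j0 : T2 ⟶ U := Over.homMk j0' rfl
  let j1 : T2 ⟶ U := Over.homMk j1' (by
    show j1' ≫ U.hom = j0' ≫ U.hom
    rw [← Over.w v, ← Category.assoc, ← Category.assoc, hj'])
  have hjv : j0 ≫ v = j1 ≫ v := Over.OverMorphism.ext hj'
  -- the difference
  have hd : ((j0 ≫ u) * (j1 ≫ u)⁻¹) ≫ π = toUnit T2 ≫ η[Q] := by
    rw [MonObj.mul_comp, GrpObj.inv_comp, Category.assoc, Category.assoc, show u ≫ π = v from rfl, hjv, mul_inv_cancel,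
      MonObj.one_eq_one, MonObj.comp_one]
  let c : T2 ⟶ WittGrp.W p m S := hker.lift _ (toUnit T2) hd
  have hc : c ≫ i = (j0 ≫ u) * (j1 ≫ u)⁻¹ := hker.lift_fst _ _ _
  -- the triple intersection
  let T3 : Over S := Over.mk (Spec.map (CommRingCat.ofHom (pair01 (A := A) (B := B)).toRingHom) ≫ T2.hom)
  let P (f : B ⊗[A] B →ₐ[A] B ⊗[A] (B ⊗[A] B)) : Spec (CommRingCat.of (B ⊗[A] (B ⊗[A] B))) ⟶ T2.left :=
    Spec.map (CommRingCat.ofHom f.toRingHom)
  have hcomp : ∀ (f : B ⊗[A] B →ₐ[A] B ⊗[A] (B ⊗[A] B)) (g : B →ₐ[A] B ⊗[A] B),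
      P f ≫ Spec.map (CommRingCat.ofHom g.toRingHom) = Spec.map (CommRingCat.ofHom (f.comp g).toRingHom) := fun f g => by
    rw [← Spec.map_comp, ← CommRingCat.ofHom_comp]; rfl
  have hhom : ∀ f : B ⊗[A] B →ₐ[A] B ⊗[A] (B ⊗[A] B), P f ≫ T2.hom = (Spec.map (CommRingCat.ofHom (f.comp q0).toRingHom)) ≫ U.hom :=
    fun f => by rw [← hcomp, Category.assoc]; rfl
  have hhom1 : ∀ f : B ⊗[A] B →ₐ[A] B ⊗[A] (B ⊗[A] B), P f ≫ T2.hom = (Spec.map (CommRingCat.ofHom (f.comp q1).toRingHom)) ≫ U.hom :=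
    fun f => by rw [← hcomp, Category.assoc, show Spec.map (CommRingCat.ofHom (q1 (A := A) (B := B)).toRingHom) ≫ U.hom = T2.hom from Over.w j1]
  let P01 : T3 ⟶ T2 := Over.homMk (P pair01) rfl
  let P02 : T3 ⟶ T2 := Over.homMk (P pair02) (by
    show P pair02 ≫ T2.hom = P pair01 ≫ T2.hom
    rw [hhom, hhom, TorsTriv25.pair02_q0, TorsTriv25.pair01_q0])
  let P12 : T3 ⟶ T2 := Over.homMk (P pair12) (by
    show P pair12 ≫ T2.hom = P pair01 ≫ T2.hom
    rw [hhom, hhom1 pair01, TorsTriv25.pair01_q1])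
  have e0 : P01 ≫ j0 = P02 ≫ j0 := Over.OverMorphism.ext (by
    show P pair01 ≫ Spec.map (CommRingCat.ofHom _) = P pair02 ≫ Spec.map (CommRingCat.ofHom _)
    rw [hcomp, hcomp, TorsTriv25.pair02_q0, TorsTriv25.pair01_q0])
  have e1 : P01 ≫ j1 = P12 ≫ j0 := Over.OverMorphism.ext (by
    show P pair01 ≫ Spec.map (CommRingCat.ofHom _) = P pair12 ≫ Spec.map (CommRingCat.ofHom _)
    rw [hcomp, hcomp, TorsTriv25.pair01_q1])
  have e2 : P02 ≫ j1 = P12 ≫ j1 := Over.OverMorphism.ext (by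
    show P pair02 ≫ Spec.map (CommRingCat.ofHom _) = P pair12 ≫ Spec.map (CommRingCat.ofHom _)
    rw [hcomp, hcomp, TorsTriv25.pair02_q1])
  have hcoc : (P01 ≫ c) * (P12 ≫ c) = P02 ≫ c := by
    rw [← cancel_mono i, MonObj.mul_comp, Category.assoc, Category.assoc, Category.assoc, hc]
    simp only [MonObj.comp_mul, GrpObj.comp_inv, ← Category.assoc, e0, e1, e2]
    group
  -- transport to rings
  let γ2 : B ⊗[A] B →+* Γ(T2.left, ⊤) := (Scheme.ΓSpecIso (CommRingCat.of (B ⊗[A] B))).inv.hom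
  let γ2' : Γ(T2.left, ⊤) →+* B ⊗[A] B := (Scheme.ΓSpecIso (CommRingCat.of (B ⊗[A] B))).hom.hom
  let γ3' : Γ(T3.left, ⊤) →+* B ⊗[A] (B ⊗[A] B) := (Scheme.ΓSpecIso (CommRingCat.of (B ⊗[A] (B ⊗[A] B)))).hom.hom
  have hγ3 : ∀ f : B ⊗[A] B →ₐ[A] B ⊗[A] (B ⊗[A] B), γ3'.comp (P f).appTop.hom = f.toRingHom.comp γ2' := fun f =>
    congrArg CommRingCat.Hom.hom (Scheme.ΓSpecIso_naturality (CommRingCat.ofHom f.toRingHom))
  let cv := WittGrp.truncMap p m γ2' (WittHom23.vec c)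
  have hcv : ∀ (P' : T3 ⟶ T2) (f : B ⊗[A] B →ₐ[A] B ⊗[A] (B ⊗[A] B)), P'.left = P f →
      WittGrp.truncMap p m γ3' (WittHom23.vec (P' ≫ c)) = WittGrp.truncMap p m f.toRingHom cv := fun P' f hP => by
    rw [WittHom23.vec_comp, ← RingHom.comp_apply, ← WittGrp.truncMap_comp, hP, hγ3, WittGrp.truncMap_comp, RingHom.comp_apply]
  obtain ⟨y', hy'⟩ := exists_coboundary p m cv (by
    rw [← hcv P01 _ rfl, ← hcv P12 _ rfl, ← hcv P02 _ rfl, ← map_add, ← WittHom23.vec_mul, hcoc])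
  let γ1 : B →+* Γ(U.left, ⊤) := (Scheme.ΓSpecIso B).inv.hom
  let y : U ⟶ WittGrp.W p m S := WittHom23.ofVec (WittGrp.truncMap p m γ1 y')
  have hγ1 : ∀ g : B →ₐ[A] B ⊗[A] B,
      (Spec.map (CommRingCat.ofHom g.toRingHom)).appTop.hom.comp γ1 = γ2.comp g.toRingHom := fun g =>
    (congrArg CommRingCat.Hom.hom (Scheme.ΓSpecIso_inv_naturality (CommRingCat.ofHom g.toRingHom))).symm
  have hy : (j1 ≫ y) = c * (j0 ≫ y) := by
    refine WittHom23.vec_injective ?_
    show WittHom23.vec (j1 ≫ y) = WittHom23.vec (c * (j0 ≫ y))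
    rw [WittHom23.vec_mul, WittHom23.vec_comp, WittHom23.vec_comp, WittHom23.vec_ofVec, ← sub_eq_iff_eq_add,
      ← RingHom.comp_apply, ← RingHom.comp_apply, ← WittGrp.truncMap_comp, ← WittGrp.truncMap_comp,
      show j1.left = Spec.map _ from rfl, show j0.left = Spec.map _ from rfl, hγ1, hγ1, WittGrp.truncMap_comp,
      WittGrp.truncMap_comp, RingHom.comp_apply, RingHom.comp_apply, ← map_sub, hy', ← RingHom.comp_apply,
      ← WittGrp.truncMap_comp]
    have : γ2.comp γ2' = RingHom.id _ := RingHom.ext fun x =>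
      Iso.hom_inv_id_apply (Scheme.ΓSpecIso (CommRingCat.of (B ⊗[A] B))) x
    rw [this, WittGrp.truncMap_id]
    rfl
  let sU : U ⟶ E := u * (y ≫ i)
  have hsU : j0 ≫ sU = j1 ≫ sU := by
    simp only [sU, MonObj.comp_mul]
    rw [← Category.assoc j1, hy, MonObj.mul_comp, hc, _root_.mul_assoc (j0 ≫ u), ← Category.assoc]
    rw [← _root_.mul_assoc (j1 ≫ u), _root_.mul_comm (j1 ≫ u), _root_.mul_assoc (j0 ≫ u), mul_inv_cancel_left]
  have hsq : IsPullback (Spec.map (CommRingCat.ofHom (q0 (A := A) (B := B)).toRingHom))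
      (Spec.map (CommRingCat.ofHom (q1 (A := A) (B := B)).toRingHom)) v.left v.left := by
    rw [hv, hφ]
    exact (isPullback_SpecMap_of_isPushout _ _ _ _ (CommRingCat.isPushout_tensorProduct A B B)).of_iso
      (Iso.refl _) (Iso.refl _) (Iso.refl _) Q.left.isoSpec.symm (by simp; rfl) (by simp) (by simp) (by simp)
  haveI : IsAffineHom v.left := isAffineHom_of_isAffine (X := Spec B) v.left
  haveI : QuasiCompact v.left := inferInstance
  haveI : Flat v.left := by rw [hv]; infer_instance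
  haveI : Surjective v.left := by rw [hv]; infer_instance
  have hfac : ∀ {Z : Scheme.{u}} (a b : Z ⟶ U.left), a ≫ v.left = b ≫ v.left → a ≫ sU.left = b ≫ sU.left := by
    intro Z a b hab
    rw [← hsq.lift_fst a b hab]
    conv_rhs => rw [← hsq.lift_snd a b hab]
    rw [Category.assoc, Category.assoc]
    exact congrArg (hsq.lift a b hab ≫ ·) (congrArg (fun t : T2 ⟶ E => t.left) hsU)
  let sL : Q.left ⟶ E.left := EffectiveEpi.desc v.left sU.left (fun a b h => hfac a b h)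
  have hsL : v.left ≫ sL = sU.left := EffectiveEpi.fac v.left sU.left _
  haveI : Epi v.left := inferInstance
  refine ⟨Over.homMk sL (by
    rw [← cancel_epi v.left, ← Category.assoc, hsL, Over.w sU, Over.w v]), Over.OverMorphism.ext ?_⟩
  show sL ≫ π.left = 𝟙 _
  rw [← cancel_epi v.left, ← Category.assoc, hsL, Category.comp_id]
  have hvπ : sU ≫ π = v := by
    have hiπ : y ≫ i ≫ π = 1 := by
      rw [hker.w, MonObj.one_eq_one, MonObj.comp_one, MonObj.comp_one]
    rw [MonObj.mul_comp, Category.assoc, hiπ, _root_.mul_one]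
  exact congrArg (fun t : U ⟶ Q => t.left) hvπ

end Groth.Agent.WittExt23
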