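import Groth.Agent.Lib.WittExt23.Classify
import Groth.Agent.Lib.WittExt23.Section
import Groth.Agent.Lib.WittHom23.Factor

/-!
# Extensions of `W_n` by `W_1` and of `W_1` by `W_n`
-/

set_option autoImplicit false

universe u

open CategoryTheory AlgebraicGeometry MonObj MonoidalCategory CartesianMonoidalCategory
open Groth.Agent.WittHom23

noncomputable section

namespace Groth.Agent.WittExt23

variable {p : ℕ} [hp : Fact p.Prime] {k : Type u} [Field k] [CharP k p] {n m : ℕ}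

theorem isMonHom_of_dl {X Y : Over (Spec (B k))} [GrpObj X] [GrpObj Y] [IsCommMonObj Y] (g : X ⟶ Y)
    (h : ∀ {T : Over (Spec (B k))} (x y : T ⟶ X), dl g x y = 1) : IsMonHom g := by
  have hmul : ∀ {T : Over (Spec (B k))} (x y : T ⟶ X), (x * y) ≫ g = (x ≫ g) * (y ≫ g) := fun x y =>
    (mul_inv_eq_one.1 (h x y)).symm
  refine WittGrp.isMonHom_of_comp_mul g ?_ fun T x y => hmul x y
  have := hmul (1 : 𝟙_ _ ⟶ X) 1
  rw [_root_.one_mul] at this
  exact left_eq_mul.1 this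

theorem cn_one_one {T : Over (Spec (B k))} : lift (1 : T ⟶ Wk p k n) 1 ≫ cn p k n = 1 :=
  cancel_V (Nat.le_add_left 1 n) (by
    rw [cn_spec, dl, _root_.one_mul, one_comp_pad, _root_.one_mul, inv_one, MonObj.one_comp]; exact _root_.mul_one _)

theorem dn_one_one {T : Over (Spec (B k))} : lift (1 : T ⟶ Wk p k 1) 1 ≫ dn p k n = 1 :=
  cancel_V (Nat.le_add_right n 1) (by
    rw [dn_spec, dl, _root_.one_mul, one_comp_tm, _root_.one_mul, inv_one, MonObj.one_comp]; exact _root_.mul_one _)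

theorem V_one_comp (d : Wk p k (n + 1) ⟶ Wk p k 1) [IsMonHom d] (hn : 1 ≤ n) :
    WittGrp.V p (Spec (B k)) (Nat.le_add_left 1 n) ≫ d = 1 := by
  rw [← V_comp_V (p := p) (k := k) hn (Nat.le_add_right n 1) (Nat.le_add_left 1 n), Category.assoc,
    comp_V_eq_one' p (B k) (natCast_base p k) n rfl (Nat.le_add_right n 1) d, MonObj.comp_one]

section extension

variable {Q E : Over (Spec (B k))} [GrpObj Q] [IsCommMonObj Q] [GrpObj E] [IsCommMonObj E]
  (i : Wk p k m ⟶ E) [IsMonHom i] (π : E ⟶ Q) [IsMonHom π] (hker : AlgGrp.IsKernel i π)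

include hker in
theorem cancel_i {T : Over (Spec (B k))} {a b : T ⟶ Wk p k m} (h : a ≫ i = b ≫ i) : a = b := by
  haveI : IsSplitMono (η[Q]) := IsSplitMono.mk' ⟨toUnit _, toUnit_unique _ _⟩
  haveI : Mono i := hker.mono_fst_of_mono
  exact (cancel_mono i).1 h

include hker in
theorem exists_comp_i {T : Over (Spec (B k))} (a : T ⟶ E) (h : a ≫ π = 1) : ∃ a', a' ≫ i = a :=
  ⟨hker.lift a (toUnit T) (by rw [h, MonObj.one_eq_one, MonObj.comp_one]), hker.lift_fst _ _ _⟩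

include hker in
theorem exists_cocycle (s₀ : Q ⟶ E) (hs : s₀ ≫ π = 𝟙 Q) : ∃ f : Q ⊗ Q ⟶ Wk p k m, IsSymCoc f ∧
    ∀ {T : Over (Spec (B k))} (x y : T ⟶ Q), (lift x y ≫ f) ≫ i = dl s₀ x y := by
  obtain ⟨f, hf⟩ := exists_comp_i i π hker (cob s₀) (by
    rw [cob, dl_comp, hs, dl_of_hom (𝟙 Q)])
  refine ⟨f, isSymCoc_of_comp i s₀ (fun a b => cancel_i i π hker) (fun x y => ?_), fun x y => ?_⟩ <;>
    rw [Category.assoc, hf, lift_cob]

include hker in
theorem exists_rho (sec : Q ⟶ E) (hsec : sec ≫ π = 𝟙 Q) : ∃ ρ : E ⟶ Wk p k m, ρ ≫ i = 𝟙 E * (π ≫ sec)⁻¹ :=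
  exists_comp_i i π hker _ (by
    rw [MonObj.mul_comp, GrpObj.inv_comp, Category.assoc, hsec, Category.comp_id, Category.id_comp, mul_inv_cancel])

include hker in
theorem i_comp_pi : i ≫ π = 1 := by
  rw [hker.w, MonObj.one_eq_one, MonObj.comp_one]

include hker in
theorem dl_rho (sec : Q ⟶ E) {ρ : E ⟶ Wk p k m} (hρ : ρ ≫ i = 𝟙 E * (π ≫ sec)⁻¹)
    (C : Q ⊗ Q ⟶ Wk p k m) (hC : ∀ {T : Over (Spec (B k))} (x y : T ⟶ Q), dl sec x y = (lift x y ≫ C) ≫ i)
    {T : Over (Spec (B k))} (x y : T ⟶ E) : dl ρ x y = (lift (x ≫ π) (y ≫ π) ≫ C)⁻¹ :=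
  cancel_i i π hker (by
    rw [dl_comp, hρ, dl_mul, dl_of_hom (𝟙 E), _root_.one_mul, dl_inv, dl_comp_left, hC, GrpObj.inv_comp])

include hker in
theorem i_comp_rho (sec : Q ⟶ E) (hone : (1 : Wk p k m ⟶ Q) ≫ sec = 1) {ρ : E ⟶ Wk p k m}
    (hρ : ρ ≫ i = 𝟙 E * (π ≫ sec)⁻¹) : i ≫ ρ = 𝟙 _ :=
  cancel_i i π hker (by
    rw [Category.assoc, hρ, MonObj.comp_mul, GrpObj.comp_inv, ← Category.assoc, i_comp_pi i π hker, hone,
      Category.comp_id, Category.id_comp, inv_one, _root_.mul_one])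

end extension

section cn

variable {E : Over (Spec (B k))} [GrpObj E] [IsCommMonObj E] [QuasiCompact E.hom]

variable (i : Wk p k 1 ⟶ E) [IsMonHom i] (π : E ⟶ Wk p k n) [IsMonHom π] [Surjective π.left] [Flat π.left]
  (hker : AlgGrp.IsKernel i π)

include hker in
theorem exists_normal_cn (hn : 1 ≤ n) : ∃ (s : Finset ℕ) (a : ℕ → k) (sec : Wk p k n ⟶ E), sec ≫ π = 𝟙 _ ∧
    (∀ {T : Over (Spec (B k))} (x y : T ⟶ Wk p k n), dl sec x y = (lift x y ≫ cn p k n ≫ L p k 1 s a) ≫ i) ∧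
    ∀ {T : Over (Spec (B k))}, (1 : T ⟶ Wk p k n) ≫ sec = 1 := by
  haveI : CompactSpace E.left := QuasiCompact.compactSpace_of_compactSpace E.hom
  haveI : IsAffine (Wk p k n).left := inferInstanceAs (IsAffine 𝔸(ULift.{u} (Fin n); Spec (B k)))
  obtain ⟨s₀, hs₀⟩ := exists_section i π hker
  obtain ⟨f, hf, hfi⟩ := exists_cocycle i π hker s₀ hs₀
  obtain ⟨n, rfl⟩ : ∃ n', n = n' + 1 := ⟨n - 1, by omega⟩
  obtain ⟨s, a, g, hg⟩ := classify_cn n f hf
  have hdl : ∀ {T : Over (Spec (B k))} (x y : T ⟶ Wk p k (n + 1)),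
      dl (s₀ * (g ≫ i)⁻¹) x y = (lift x y ≫ cn p k (n + 1) ≫ L p k 1 s a) ≫ i := fun x y => by
    rw [dl_mul, dl_inv, ← dl_comp g i, ← hfi, hg, MonObj.comp_mul, lift_cob, MonObj.mul_comp, mul_inv_cancel_right]
  refine ⟨s, a, s₀ * (g ≫ i)⁻¹, ?_, hdl, ?_⟩
  · rw [MonObj.mul_comp, GrpObj.inv_comp, Category.assoc, i_comp_pi i π hker, MonObj.comp_one, inv_one, _root_.mul_one, hs₀]
  · intro T
    have h := hdl (1 : T ⟶ Wk p k (n + 1)) 1
    rw [dl, _root_.one_mul, mul_inv_cancel_right] at h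
    exact h.trans (by rw [← Category.assoc (lift _ _), cn_one_one, MonObj.one_comp, MonObj.one_comp])

include hker in
theorem pushout_cn (hn : 1 ≤ n) :
    ∃! φ : Wk p k 1 ⟶ Wk p k 1, IsMonHom φ ∧
      ∃ g : Wk p k (n + 1) ⟶ E, IsMonHom g ∧ WittGrp.V p (Spec (B k)) (Nat.le_add_left 1 n) ≫ g = φ ≫ i ∧
        g ≫ π = WittGrp.R p (Spec (B k)) (Nat.le_add_right n 1) := by
  obtain ⟨s, a, sec, hsec, hdl, hone⟩ := exists_normal_cn i π hker hn
  let Rn := WittGrp.R p (Spec (B k)) (Nat.le_add_right n 1)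
  let V := WittGrp.V p (Spec (B k)) (Nat.le_add_left 1 n)
  obtain ⟨σ, hσ⟩ : ∃ σ : Wk p k (n + 1) ⟶ Wk p k 1, σ ≫ V = 𝟙 _ * (Rn ≫ pad p k n)⁻¹ :=
    exists_comp_V _ (Nat.le_add_right n 1) (by omega) _ (by
      rw [MonObj.mul_comp, GrpObj.inv_comp, Category.assoc, pad_comp_R, Category.comp_id, Category.id_comp, mul_inv_cancel])
  have hdσ : ∀ {T : Over (Spec (B k))} (x y : T ⟶ Wk p k (n + 1)), dl σ x y = (lift (x ≫ Rn) (y ≫ Rn) ≫ cn p k n)⁻¹ :=
    fun x y => cancel_V (Nat.le_add_left 1 n) (by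
      rw [dl_comp, hσ, dl_mul, dl_of_hom (𝟙 (Wk p k (n + 1))), _root_.one_mul, dl_inv, dl_comp_left, GrpObj.inv_comp, cn_spec])
  have hVR : V ≫ Rn = 1 := by
    have := V_comp_R_eq_one (p := p) (k := k) (Nat.le_add_left 1 n) (Nat.le_add_right n 1) (by omega) (𝟙 _)
    rwa [Category.id_comp] at this
  have hVσ : V ≫ σ = 𝟙 _ := cancel_V (Nat.le_add_left 1 n) (by
    rw [Category.assoc, hσ, MonObj.comp_mul, GrpObj.comp_inv, ← Category.assoc V Rn, hVR, one_comp_pad, Category.comp_id,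
      Category.id_comp, inv_one, _root_.mul_one])
  refine ⟨L p k 1 s a, ⟨inferInstance, (Rn ≫ sec) * (σ ≫ L p k 1 s a ≫ i), isMonHom_of_dl _ fun x y => ?_, ?_, ?_⟩, ?_⟩
  · rw [dl_mul, dl_comp_left, hdl, ← dl_comp, hdσ, GrpObj.inv_comp]
    simp only [Category.assoc]
    exact mul_inv_cancel _
  · rw [MonObj.comp_mul, ← Category.assoc V Rn, hVR, hone, ← Category.assoc V σ, hVσ, Category.id_comp, _root_.one_mul]
  · rw [MonObj.mul_comp, Category.assoc, hsec, Category.comp_id, Category.assoc, Category.assoc, i_comp_pi i π hker,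
      MonObj.comp_one, MonObj.comp_one, _root_.mul_one]
  · rintro φ ⟨hφ, g, hg, hgV, hgπ⟩
    have hd : ((g * ((Rn ≫ sec) * (σ ≫ L p k 1 s a ≫ i))⁻¹)) ≫ π = 1 := by
      rw [MonObj.mul_comp, GrpObj.inv_comp, MonObj.mul_comp, hgπ, Category.assoc, hsec, Category.comp_id, Category.assoc,
        Category.assoc, i_comp_pi i π hker, MonObj.comp_one, MonObj.comp_one, _root_.mul_one, mul_inv_cancel]
    obtain ⟨d, hd'⟩ := exists_comp_i i π hker _ hd
    haveI : IsMonHom d := isMonHom_of_dl _ fun x y => cancel_i i π hker (by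
      rw [dl_comp, hd', dl_mul, dl_of_hom g, _root_.one_mul, dl_inv, dl_mul, dl_comp_left, hdl, ← dl_comp, hdσ,
        GrpObj.inv_comp]
      simp only [Category.assoc]
      rw [mul_inv_cancel, inv_one, MonObj.one_comp])
    have h2 : V ≫ d = 1 := V_one_comp d hn
    have h3 : (V ≫ d) ≫ i = (φ ≫ i) * ((L p k 1 s a) ≫ i)⁻¹ := by
      rw [Category.assoc, hd', MonObj.comp_mul, GrpObj.comp_inv, hgV, MonObj.comp_mul, ← Category.assoc V Rn, hVR, hone,
        ← Category.assoc V σ, hVσ, Category.id_comp, _root_.one_mul]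
    rw [h2, MonObj.one_comp] at h3
    exact cancel_i i π hker (mul_inv_eq_one.1 h3.symm)

include hker in
theorem pullback_cn [IsAlgClosed k] (hn : 1 ≤ n) (hnm : n ≤ m) :
    ∃ f : Wk p k n ⟶ Wk p k m, IsMonHom f ∧
      ∃ h : E ⟶ Wk p k (m + 1), IsMonHom h ∧ i ≫ h = WittGrp.V p (Spec (B k)) (Nat.le_add_left 1 m) ∧
        h ≫ WittGrp.R p (Spec (B k)) (Nat.le_add_right m 1) = π ≫ f := by
  obtain ⟨s, a, sec, hsec, hdl, hone⟩ := exists_normal_cn i π hker hn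
  choose b hb using fun j => exists_root (p := p) (k := k) (n + 1 - 1) (a j)
  have hV := lift_comp_V p (B k) (natCast_base p k) s a b (Nat.le_add_left 1 n) fun j _ => hb j
  let Vm := WittGrp.V p (Spec (B k)) (Nat.le_add_left 1 m)
  let Rm := WittGrp.R p (Spec (B k)) (Nat.le_add_right m 1)
  let S := pad p k n ≫ L p k (n + 1) s b ≫ WittGrp.V p (Spec (B k)) (Nat.add_le_add_right hnm 1)
  have hS : ∀ {T : Over (Spec (B k))} (x y : T ⟶ Wk p k n), dl S x y = (lift x y ≫ cn p k n ≫ L p k 1 s a) ≫ Vm := by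
    intro T x y
    rw [← dl_comp, ← cn_spec, Category.assoc, ← Category.assoc (WittGrp.V p (Spec (B k)) (Nat.le_add_left 1 n)), ← hV]
    simp only [Category.assoc]
    rw [V_comp_V]
  have hS1 : ∀ {T : Over (Spec (B k))}, (1 : T ⟶ Wk p k n) ≫ S = 1 := fun {T} => by
    rw [← Category.assoc, one_comp_pad, ← Category.assoc, MonObj.one_comp, MonObj.one_comp]
  obtain ⟨ρ, hρ⟩ := exists_rho i π hker sec hsec
  have hdρ := fun {T : Over (Spec (B k))} (x y : T ⟶ E) => dl_rho i π hker sec hρ (cn p k n ≫ L p k 1 s a) hdl x y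
  refine ⟨S ≫ Rm, isMonHom_of_dl _ fun x y => ?_, (ρ ≫ Vm) * (π ≫ S), isMonHom_of_dl _ fun x y => ?_, ?_, ?_⟩
  · rw [← dl_comp, hS]; exact V_comp_R_eq_one _ _ (by omega) _
  · rw [dl_mul, ← dl_comp, hdρ, dl_comp_left, hS, GrpObj.inv_comp, inv_mul_cancel]
  · rw [MonObj.comp_mul, ← Category.assoc i ρ, i_comp_rho i π hker sec hone hρ, Category.id_comp,
      ← Category.assoc i π, i_comp_pi i π hker, hS1, _root_.mul_one]
  · rw [MonObj.mul_comp, Category.assoc π]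
    rw [V_comp_R_eq_one _ _ (by omega) ρ, _root_.one_mul]

end cn

section dn

variable {E : Over (Spec (B k))} [GrpObj E] [IsCommMonObj E] [QuasiCompact E.hom]

variable (i : Wk p k n ⟶ E) [IsMonHom i] (π : E ⟶ Wk p k 1) [IsMonHom π] [Surjective π.left] [Flat π.left]
  (hker : AlgGrp.IsKernel i π)

variable [IsAlgClosed k]

include hker in
theorem exists_normal_dn : ∃ (s : Finset ℕ) (a : ℕ → k) (sec : Wk p k 1 ⟶ E), sec ≫ π = 𝟙 _ ∧
    (∀ {T : Over (Spec (B k))} (x y : T ⟶ Wk p k 1), dl sec x y = (lift x y ≫ dn p k n ≫ L p k n s a) ≫ i) ∧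
    ∀ {T : Over (Spec (B k))}, (1 : T ⟶ Wk p k 1) ≫ sec = 1 := by
  haveI : CompactSpace E.left := QuasiCompact.compactSpace_of_compactSpace E.hom
  haveI : IsAffine (Wk p k 1).left := inferInstanceAs (IsAffine 𝔸(ULift.{u} (Fin 1); Spec (B k)))
  obtain ⟨s₀, hs₀⟩ := exists_section i π hker
  obtain ⟨f, hf, hfi⟩ := exists_cocycle i π hker s₀ hs₀
  obtain ⟨s, a, g, hg⟩ := classify_dn n f hf
  have hdl : ∀ {T : Over (Spec (B k))} (x y : T ⟶ Wk p k 1),
      dl (s₀ * (g ≫ i)⁻¹) x y = (lift x y ≫ dn p k n ≫ L p k n s a) ≫ i := fun x y => by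
    rw [dl_mul, dl_inv, ← dl_comp g i, ← hfi, hg, MonObj.comp_mul, lift_cob, MonObj.mul_comp, mul_inv_cancel_right]
  refine ⟨s, a, s₀ * (g ≫ i)⁻¹, ?_, hdl, ?_⟩
  · rw [MonObj.mul_comp, GrpObj.inv_comp, Category.assoc, i_comp_pi i π hker, MonObj.comp_one, inv_one, _root_.mul_one, hs₀]
  · intro T
    have h := hdl (1 : T ⟶ Wk p k 1) 1
    rw [dl, _root_.one_mul, mul_inv_cancel_right] at h
    exact h.trans (by rw [← Category.assoc (lift _ _), dn_one_one, MonObj.one_comp, MonObj.one_comp])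

include hker in
theorem pullback_dn (hn : 1 ≤ n) :
    ∃! ψ : Wk p k 1 ⟶ Wk p k 1, IsMonHom ψ ∧
      ∃ h : E ⟶ Wk p k (n + 1), IsMonHom h ∧ i ≫ h = WittGrp.V p (Spec (B k)) (Nat.le_add_right n 1) ∧
        h ≫ WittGrp.R p (Spec (B k)) (Nat.le_add_left 1 n) = π ≫ ψ := by
  obtain ⟨s, a, sec, hsec, hdl, hone⟩ := exists_normal_dn i π hker
  choose b hb using fun j => exists_root (p := p) (k := k) (n + 1 - n) (a j)
  have hV := lift_comp_V p (B k) (natCast_base p k) s a b (Nat.le_add_right n 1) fun j _ => hb j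
  let V := WittGrp.V p (Spec (B k)) (Nat.le_add_right n 1)
  let R1 := WittGrp.R p (Spec (B k)) (Nat.le_add_left 1 n)
  let S := tm p k (n + 1) ≫ L p k (n + 1) s b
  have hS : ∀ {T : Over (Spec (B k))} (x y : T ⟶ Wk p k 1), dl S x y = (lift x y ≫ dn p k n ≫ L p k n s a) ≫ V := by
    intro T x y
    rw [← dl_comp, ← dn_spec, Category.assoc, ← hV]
    simp only [Category.assoc]
    rfl
  obtain ⟨ρ, hρ⟩ := exists_rho i π hker sec hsec
  have hdρ := fun {T : Over (Spec (B k))} (x y : T ⟶ E) => dl_rho i π hker sec hρ (dn p k n ≫ L p k n s a) hdl x y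
  have hSR : S ≫ R1 = L p k 1 s b := by
    rw [Category.assoc, lift_comp_R, ← Category.assoc, tm_comp_R, tm_one, Category.id_comp]
  have hVR : ∀ {T : Over (Spec (B k))} (x : T ⟶ Wk p k n), (x ≫ V) ≫ R1 = 1 := fun x => V_comp_R_eq_one _ _ (by omega) x
  have hh : IsMonHom ((ρ ≫ V) * (π ≫ S)) := isMonHom_of_dl _ fun x y => by
    rw [dl_mul, ← dl_comp, hdρ, dl_comp_left, hS, GrpObj.inv_comp, inv_mul_cancel]
  have hi : i ≫ ((ρ ≫ V) * (π ≫ S)) = V := by
    rw [MonObj.comp_mul, ← Category.assoc i ρ, i_comp_rho i π hker sec hone hρ, Category.id_comp,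
      ← Category.assoc i π, i_comp_pi i π hker, ← Category.assoc, one_comp_tm, MonObj.one_comp, _root_.mul_one]
  have hR : ((ρ ≫ V) * (π ≫ S)) ≫ R1 = π ≫ L p k 1 s b := by
    rw [MonObj.mul_comp, hVR, _root_.one_mul, Category.assoc, hSR]
  refine ⟨L p k 1 s b, ⟨inferInstance, _, hh, hi, hR⟩, ?_⟩
  rintro ψ ⟨hψ, h, hhom, hih, hhR⟩
  let d := h * ((ρ ≫ V) * (π ≫ S))⁻¹
  haveI : IsMonHom d := isMonHom_of_dl _ fun x y => by
    rw [dl_mul, dl_inv, dl_of_hom h, dl_of_hom ((ρ ≫ V) * (π ≫ S)), inv_one, _root_.mul_one]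
  have hid : i ≫ d = 1 := by rw [MonObj.comp_mul, GrpObj.comp_inv, hih, hi, mul_inv_cancel]
  let q := sec ≫ d
  haveI : IsMonHom q := isMonHom_of_dl _ fun x y => by
    rw [← dl_comp, hdl, Category.assoc, hid, MonObj.comp_one]
  obtain ⟨g', ⟨-, hg'⟩, -⟩ := factor_V p (B k) (natCast_base p k) n 1 (by omega) q
  have hq : q ≫ R1 = 1 := by rw [← hg']; exact hVR g'
  have h1 : q ≫ R1 = ψ * (L p k 1 s b)⁻¹ := by
    rw [Category.assoc, MonObj.mul_comp, GrpObj.inv_comp, hR, hhR, MonObj.comp_mul, GrpObj.comp_inv, ← Category.assoc,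
      ← Category.assoc, hsec, Category.id_comp, Category.id_comp]
  rw [hq] at h1
  exact mul_inv_eq_one.1 h1.symm

include hker in
theorem pushout_dn (hn : 1 ≤ n) (hnm : n ≤ m) :
    ∃ g : Wk p k m ⟶ Wk p k n, IsMonHom g ∧
      ∃ h : Wk p k (m + 1) ⟶ E, IsMonHom h ∧ WittGrp.V p (Spec (B k)) (Nat.le_add_right m 1) ≫ h = g ≫ i ∧
        h ≫ π = WittGrp.R p (Spec (B k)) (Nat.le_add_left 1 m) := by
  obtain ⟨s, a, sec, hsec, hdl, hone⟩ := exists_normal_dn i π hker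
  let Vn := WittGrp.V p (Spec (B k)) (Nat.le_add_right n 1)
  let R1 := WittGrp.R p (Spec (B k)) (Nat.le_add_left 1 n)
  let R1m := WittGrp.R p (Spec (B k)) (Nat.le_add_left 1 m)
  let Rnm := WittGrp.R p (Spec (B k)) (Nat.add_le_add_right hnm 1)
  let Vm := WittGrp.V p (Spec (B k)) (Nat.le_add_right m 1)
  obtain ⟨τ, hτ⟩ : ∃ τ : Wk p k (n + 1) ⟶ Wk p k n, τ ≫ Vn = 𝟙 _ * (R1 ≫ tm p k (n + 1))⁻¹ :=
    exists_comp_V _ (Nat.le_add_left 1 n) (by omega) _ (by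
      rw [MonObj.mul_comp, GrpObj.inv_comp, Category.assoc, tm_comp_R, tm_one, Category.comp_id, Category.id_comp, mul_inv_cancel])
  have hdτ : ∀ {T : Over (Spec (B k))} (x y : T ⟶ Wk p k (n + 1)), dl τ x y = (lift (x ≫ R1) (y ≫ R1) ≫ dn p k n)⁻¹ :=
    fun x y => cancel_V (Nat.le_add_right n 1) (by
      rw [dl_comp, hτ, dl_mul, dl_of_hom (𝟙 (Wk p k (n + 1))), _root_.one_mul, dl_inv, dl_comp_left, GrpObj.inv_comp, dn_spec])
  have hRR : Rnm ≫ R1 = R1m := eq_of_comp_eq fun T x => vec_injective (by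
    rw [← Category.assoc, vec_R, vec_R, vec_R]
    exact TruncatedWittVector.ext fun i => by simp only [TruncatedWittVector.coeff_truncate, Fin.castLE_castLE])
  have hVR : Vm ≫ R1m = 1 := by
    have := V_comp_R_eq_one (p := p) (k := k) (Nat.le_add_right m 1) (Nat.le_add_left 1 m) (by omega) (𝟙 _)
    rwa [Category.id_comp] at this
  let G := Rnm ≫ τ ≫ L p k n s a
  have hG : ∀ {T : Over (Spec (B k))} (x y : T ⟶ Wk p k (m + 1)),
      dl G x y = (lift (x ≫ R1m) (y ≫ R1m) ≫ dn p k n ≫ L p k n s a)⁻¹ := fun x y => by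
    rw [dl_comp_left, ← dl_comp, hdτ, GrpObj.inv_comp, Category.assoc, Category.assoc, Category.assoc, hRR]
  refine ⟨Vm ≫ G, isMonHom_of_dl _ fun x y => ?_, (R1m ≫ sec) * (G ≫ i), isMonHom_of_dl _ fun x y => ?_, ?_, ?_⟩
  · rw [dl_comp_left, hG, Category.assoc, hVR, MonObj.comp_one, Category.assoc, hVR, MonObj.comp_one,
      ← Category.assoc, dn_one_one, MonObj.one_comp, inv_one]
  · rw [dl_mul, dl_comp_left, hdl, ← dl_comp, hG, GrpObj.inv_comp, mul_inv_cancel]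
  · rw [MonObj.comp_mul, ← Category.assoc Vm R1m, hVR, hone, _root_.one_mul]
    simp only [Category.assoc]
    rfl
  · rw [MonObj.mul_comp, Category.assoc, hsec, Category.comp_id, Category.assoc, i_comp_pi i π hker,
      MonObj.comp_one, _root_.mul_one]

end dn

end Groth.Agent.WittExt23
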