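import Groth.Agent.Lib.WittHom23.End
import Groth.Agent.Lib.WittExt23.Amitsur
import Groth.Agent.Lib.GaDual.Lazard

/-!
# Carries of Witt vectors, symmetric cocycles
-/

set_option autoImplicit false

universe u

open CategoryTheory AlgebraicGeometry MonObj MonoidalCategory CartesianMonoidalCategory
open Groth.Agent.WittHom23

noncomputable section

namespace Groth.Agent.WittExt23

section ring

variable (p : ℕ) [hp : Fact p.Prime]

/-- The basic cocycle as a function. -/
def bS {A : Type u} [CommRing A] (x y : A) : A :=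
  ∑ j ∈ Finset.Ioo 0 p, ((p.choose j / p : ℕ) : A) * x ^ j * y ^ (p - j)

omit hp in
theorem map_bS {A B : Type u} [CommRing A] [CommRing B] (f : A →+* B) (x y : A) : f (bS p x y) = bS p (f x) (f y) := by
  simp [bS]

theorem mul_bS {A : Type u} [CommRing A] (x y : A) : (p : A) * bS p x y = (x + y) ^ p - x ^ p - y ^ p := by
  have hpos := hp.out.pos
  rw [add_pow, bS, Finset.mul_sum, Finset.sum_range_succ,
    show Finset.range p = insert 0 (Finset.Ioo 0 p) by ext i; simp; omega,
    Finset.sum_insert (by simp)]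
  simp only [pow_zero, Nat.sub_zero, one_mul, Nat.choose_zero_right, Nat.cast_one, mul_one, Nat.sub_self,
    Nat.choose_self]
  refine Eq.trans (b := ∑ j ∈ Finset.Ioo 0 p, x ^ j * y ^ (p - j) * (p.choose j : A))
    (Finset.sum_congr rfl fun j hj => ?_) (by ring)
  rw [Finset.mem_Ioo] at hj
  rw [show (p : A) * ((((p.choose j / p : ℕ) : A)) * x ^ j * y ^ (p - j)) =
      x ^ j * y ^ (p - j) * ((p : A) * ((p.choose j / p : ℕ) : A)) by ring,
    ← Nat.cast_mul, Nat.mul_div_cancel' (hp.out.dvd_choose_self (by omega) hj.2)]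

theorem coeff_one_carry {A : Type u} [CommRing A] (a b : A) :
    (WittVector.teichmuller p a + WittVector.teichmuller p b - WittVector.teichmuller p (a + b)).coeff 1 =
      - bS p a b := by
  let Z := MvPolynomial (ULift.{u} Bool) ℤ
  let D : WittVector p Z := WittVector.teichmuller p (MvPolynomial.X ⟨false⟩) + WittVector.teichmuller p (MvPolynomial.X ⟨true⟩) -
    WittVector.teichmuller p (MvPolynomial.X ⟨false⟩ + MvPolynomial.X ⟨true⟩)
  have h0 : D.coeff 0 = 0 := by
    show WittVector.constantCoeff D = 0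
    rw [map_sub, map_add]
    simp [WittVector.constantCoeff, WittVector.teichmuller_coeff_zero]
  have h1 : D.coeff 1 = - bS p (MvPolynomial.X ⟨false⟩ : Z) (MvPolynomial.X ⟨true⟩) := by
    have hne : (p : Z) ≠ 0 := by exact_mod_cast hp.out.ne_zero
    refine mul_left_cancel₀ hne ?_
    rw [mul_neg, mul_bS]
    have hg : WittVector.ghostComponent 1 D =
        (MvPolynomial.X ⟨false⟩ : Z) ^ p + MvPolynomial.X ⟨true⟩ ^ p - (MvPolynomial.X ⟨false⟩ + MvPolynomial.X ⟨true⟩) ^ p := by
      rw [map_sub, map_add, WittVector.ghostComponent_teichmuller, WittVector.ghostComponent_teichmuller,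
        WittVector.ghostComponent_teichmuller, pow_one]
    rw [WittVector.ghostComponent_apply, wittPolynomial_one] at hg
    simp only [map_add, map_mul, map_pow, MvPolynomial.aeval_X, MvPolynomial.aeval_C, h0, zero_pow hp.out.ne_zero,
      add_zero] at hg
    rw [map_natCast] at hg
    rw [hg]; ring
  let e : Z →+* A := MvPolynomial.eval₂Hom (Int.castRingHom A) fun i => if i.down then b else a
  have ea : e (MvPolynomial.X ⟨false⟩) = a := MvPolynomial.eval₂_X (Int.castRingHom A) _ _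
  have eb : e (MvPolynomial.X ⟨true⟩) = b := MvPolynomial.eval₂_X (Int.castRingHom A) _ _
  have he : WittVector.map e D = WittVector.teichmuller p a + WittVector.teichmuller p b - WittVector.teichmuller p (a + b) := by
    rw [map_sub, map_add, WittVector.map_teichmuller, WittVector.map_teichmuller, WittVector.map_teichmuller, map_add, ea, eb]
  rw [← he, WittVector.map_coeff, h1, map_neg, map_bS]
  rw [ea, eb]

theorem bS_pow {A : Type u} [CommRing A] [CharP A p] (x y : A) (k : ℕ) :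
    bS p x y ^ p ^ k = bS p (x ^ p ^ k) (y ^ p ^ k) := by
  rw [← iterateFrobenius_def, map_bS, iterateFrobenius_def, iterateFrobenius_def]

end ring

variable (p : ℕ) [hp : Fact p.Prime] (k : Type u) [Field k] [CharP k p]

/-- The Witt group over `k`. -/
abbrev Wk (n : ℕ) : Over (Spec (B k)) := WittGrp.W p n (Spec (B k))

variable {p k}
variable {n m : ℕ}

theorem cancel_V (h : n ≤ m) {T : Over (Spec (B k))} {x y : T ⟶ Wk p k n}
    (e : x ≫ WittGrp.V p (Spec (B k)) h = y ≫ WittGrp.V p (Spec (B k)) h) : x = y :=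
  vec_injective (shift_injective p h (by rw [← vec_V h x, ← vec_V h y, e]))

theorem exists_comp_V (h : n ≤ m) {l : ℕ} (h' : l ≤ m) (hl : m - n ≤ l) {T : Over (Spec (B k))} (x : T ⟶ Wk p k m)
    (hx : x ≫ WittGrp.R p (Spec (B k)) h' = 1) : ∃ x', x' ≫ WittGrp.V p (Spec (B k)) h = x := by
  obtain ⟨w, hw⟩ := exists_shift_eq p h (vec x) fun i hi => by
    have := congrArg (fun v => TruncatedWittVector.coeff (p := p) (⟨i, by omega⟩ : Fin l) v) (congrArg vec hx)
    simp only [vec_R, vec_one, TruncatedWittVector.coeff_truncate, TruncatedWittVector.coeff_zero] at this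
    exact this
  exact ⟨ofVec w, vec_injective (by rw [vec_V, vec_ofVec, hw])⟩

variable (p k)

/-- Append a zero. -/
def pad (n : ℕ) : Wk p k n ⟶ Wk p k (n + 1) :=
  ofVec (TruncatedWittVector.mk p fun i => if h : (i : ℕ) < n then (vec (𝟙 (Wk p k n))).coeff ⟨i, h⟩ else 0)

variable {p k}

theorem coeff_pad {T : Over (Spec (B k))} (x : T ⟶ Wk p k n) (i : Fin (n + 1)) :
    (vec (x ≫ pad p k n)).coeff i = if h : (i : ℕ) < n then (vec x).coeff ⟨i, h⟩ else 0 := by
  rw [vec_comp, WittGrp.coeff_truncMap, pad, vec_ofVec, TruncatedWittVector.coeff_mk]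
  split_ifs with h
  · rw [← WittGrp.coeff_truncMap, ← vec_comp, Category.comp_id]
  · rw [map_zero]

theorem pad_comp_R : pad p k n ≫ WittGrp.R p (Spec (B k)) (Nat.le_add_right n 1) = 𝟙 _ :=
  eq_of_comp_eq fun T x => vec_injective (TruncatedWittVector.ext fun i => by
    rw [← Category.assoc, Category.comp_id, vec_R, TruncatedWittVector.coeff_truncate, coeff_pad,
      dif_pos (show ((Fin.castLE (Nat.le_add_right n 1) i : Fin (n + 1)) : ℕ) < n by simp)]
    congr 1)

theorem one_comp_pad {T : Over (Spec (B k))} : (1 : T ⟶ Wk p k n) ≫ pad p k n = 1 :=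
  vec_injective (TruncatedWittVector.ext fun i => by
    rw [coeff_pad, vec_one, vec_one]
    split_ifs <;> simp)

theorem V_comp_pad (n : ℕ) :
    WittGrp.V p (Spec (B k)) (Nat.le_add_right n 1) ≫ pad p k (n + 1) =
      pad p k n ≫ WittGrp.V p (Spec (B k)) (Nat.le_add_right (n + 1) 1) :=
  eq_of_comp_eq fun T x => vec_injective (TruncatedWittVector.ext fun i => by
    rw [← Category.assoc, ← Category.assoc, coeff_pad, vec_V (Nat.le_add_right (n + 1) 1) (x ≫ pad p k n),
      WittGrp.coeff_shift]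
    by_cases hi : n + 1 + 1 - (n + 1) ≤ (i : ℕ)
    · rw [dif_pos hi, coeff_pad]
      by_cases h : (i : ℕ) < n + 1
      · rw [dif_pos h, vec_V, WittGrp.coeff_shift, dif_pos (by simp at hi ⊢; omega),
          dif_pos (show (i : ℕ) - (n + 1 + 1 - (n + 1)) < n by simp at hi ⊢; omega)]
        congr 1
        exact Fin.ext (by simp)
      · rw [dif_neg h, dif_neg (show ¬ (i : ℕ) - (n + 1 + 1 - (n + 1)) < n by simp at hi ⊢; omega)]
    · rw [dif_neg hi, dif_pos (show (i : ℕ) < n + 1 by omega), vec_V, WittGrp.coeff_shift,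
        dif_neg (by simp at hi ⊢; omega)])

variable (p k) in
/-- The Teichmüller map. -/
def tm (n : ℕ) : Wk p k 1 ⟶ Wk p k n := ofVec (teich p n ((vec (𝟙 (Wk p k 1))).coeff 0))

theorem vec_tm {T : Over (Spec (B k))} (x : T ⟶ Wk p k 1) : vec (x ≫ tm p k n) = teich p n ((vec x).coeff 0) := by
  rw [vec_comp, tm, vec_ofVec, truncMap_teich]
  congr 1

theorem tm_comp_R (h : n ≤ m) : tm p k m ≫ WittGrp.R p (Spec (B k)) h = tm p k n :=
  eq_of_comp_eq fun T x => vec_injective (by rw [← Category.assoc, vec_R, vec_tm, vec_tm, truncate_teich])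

theorem tm_one : tm p k 1 = 𝟙 _ :=
  eq_of_comp_eq fun T x => vec_injective (TruncatedWittVector.ext fun i => by
    rw [vec_tm, Category.comp_id, coeff_teich]
    fin_cases i
    simp)

theorem one_comp_tm {T : Over (Spec (B k))} : (1 : T ⟶ Wk p k 1) ≫ tm p k n = 1 :=
  vec_injective (TruncatedWittVector.ext fun i => by
    rw [vec_tm, vec_one, vec_one, coeff_teich]
    simp)

theorem pad_one : pad p k 1 = tm p k 2 :=
  eq_of_comp_eq fun T x => vec_injective (TruncatedWittVector.ext fun i => by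
    rw [coeff_pad, vec_tm, coeff_teich]
    fin_cases i <;> simp)

/-- The coboundary of a function. -/
def dl {X Y : Over (Spec (B k))} [GrpObj X] [GrpObj Y] [IsCommMonObj Y] {T : Over (Spec (B k))} (g : X ⟶ Y)
    (x y : T ⟶ X) : T ⟶ Y := (x ≫ g) * (y ≫ g) * ((x * y) ≫ g)⁻¹

section dl

variable {X Y Z : Over (Spec (B k))} [GrpObj X] [IsCommMonObj X] [GrpObj Y] [IsCommMonObj Y] [GrpObj Z] [IsCommMonObj Z]
  {T T' : Over (Spec (B k))}

omit [IsCommMonObj X] in
theorem comp_dl (u : T' ⟶ T) (g : X ⟶ Y) (x y : T ⟶ X) : u ≫ dl g x y = dl g (u ≫ x) (u ≫ y) := by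
  simp only [dl, MonObj.comp_mul, GrpObj.comp_inv, ← Category.assoc]

omit [IsCommMonObj X] in
theorem dl_comp (g : X ⟶ Y) (h : Y ⟶ Z) [IsMonHom h] (x y : T ⟶ X) : dl g x y ≫ h = dl (g ≫ h) x y := by
  simp only [dl, MonObj.mul_comp, GrpObj.inv_comp, Category.assoc]

omit [IsCommMonObj X] in
theorem dl_of_hom (g : X ⟶ Y) [IsMonHom g] (x y : T ⟶ X) : dl g x y = 1 := by
  rw [dl, MonObj.mul_comp, mul_inv_cancel]

omit [IsCommMonObj X] in
theorem dl_mul (g g' : X ⟶ Y) (x y : T ⟶ X) : dl (g * g') x y = dl g x y * dl g' x y := by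
  simp only [dl, MonObj.comp_mul, mul_inv]
  exact (mul_mul_mul_comm _ _ _ _).trans (congrArg₂ (· * ·) rfl rfl) |>.trans (by ac_rfl)

omit [IsCommMonObj X] in
theorem dl_inv (g : X ⟶ Y) (x y : T ⟶ X) : dl g⁻¹ x y = (dl g x y)⁻¹ := by
  simp only [dl, GrpObj.comp_inv, mul_inv]

omit [IsCommMonObj X] in
theorem dl_comp_left {X' : Over (Spec (B k))} [GrpObj X'] (h : X' ⟶ X) [IsMonHom h] (g : X ⟶ Y) (x y : T ⟶ X') :
    dl (h ≫ g) x y = dl g (x ≫ h) (y ≫ h) := by
  simp only [dl, MonObj.mul_comp, ← Category.assoc]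

end dl

theorem exists_cn (n : ℕ) : ∃ c : Wk p k n ⊗ Wk p k n ⟶ Wk p k 1,
    c ≫ WittGrp.V p (Spec (B k)) (Nat.le_add_left 1 n) = dl (pad p k n) (fst _ _) (snd _ _) :=
  exists_comp_V _ (Nat.le_add_right n 1) (by omega) _ (by rw [dl_comp, pad_comp_R]; exact dl_of_hom (𝟙 _) _ _)

theorem exists_dn (n : ℕ) : ∃ d : Wk p k 1 ⊗ Wk p k 1 ⟶ Wk p k n,
    d ≫ WittGrp.V p (Spec (B k)) (Nat.le_add_right n 1) = dl (tm p k (n + 1)) (fst _ _) (snd _ _) :=
  exists_comp_V _ (Nat.le_add_left 1 n) (by omega) _ (by rw [dl_comp, tm_comp_R, tm_one]; exact dl_of_hom (𝟙 _) _ _)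

variable (p k) in
/-- The carry of `W_n` into the next component. -/
def cn (n : ℕ) : Wk p k n ⊗ Wk p k n ⟶ Wk p k 1 := (exists_cn n).choose

variable (p k) in
/-- The carry of the first component. -/
def dn (n : ℕ) : Wk p k 1 ⊗ Wk p k 1 ⟶ Wk p k n := (exists_dn n).choose

theorem cn_spec {T : Over (Spec (B k))} (x y : T ⟶ Wk p k n) :
    (lift x y ≫ cn p k n) ≫ WittGrp.V p (Spec (B k)) (Nat.le_add_left 1 n) = dl (pad p k n) x y := by
  rw [Category.assoc, show cn p k n ≫ _ = _ from (exists_cn (p := p) (k := k) n).choose_spec, comp_dl, lift_fst, lift_snd]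

theorem dn_spec {T : Over (Spec (B k))} (x y : T ⟶ Wk p k 1) :
    (lift x y ≫ dn p k n) ≫ WittGrp.V p (Spec (B k)) (Nat.le_add_right n 1) = dl (tm p k (n + 1)) x y := by
  rw [Category.assoc, show dn p k n ≫ _ = _ from (exists_dn (p := p) (k := k) n).choose_spec, comp_dl, lift_fst, lift_snd]

/-- Symmetric cocycles. -/
structure IsSymCoc {X Y : Over (Spec (B k))} [GrpObj X] [GrpObj Y] (f : X ⊗ X ⟶ Y) : Prop where
  symm : ∀ {T : Over (Spec (B k))} (x y : T ⟶ X), lift x y ≫ f = lift y x ≫ f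
  coc : ∀ {T : Over (Spec (B k))} (x y z : T ⟶ X),
    (lift x y ≫ f) * (lift (x * y) z ≫ f) = (lift x (y * z) ≫ f) * (lift y z ≫ f)

theorem isSymCoc_of_comp {X Y Z : Over (Spec (B k))} [GrpObj X] [IsCommMonObj X] [GrpObj Y] [GrpObj Z] [IsCommMonObj Z]
    {f : X ⊗ X ⟶ Y} (i : Y ⟶ Z) [IsMonHom i] (g : X ⟶ Z)
    (hi : ∀ {T : Over (Spec (B k))} (a b : T ⟶ Y), a ≫ i = b ≫ i → a = b)
    (h : ∀ {T : Over (Spec (B k))} (x y : T ⟶ X), (lift x y ≫ f) ≫ i = dl g x y) : IsSymCoc f where
  symm x y := hi _ _ (by rw [h, h, dl, dl, _root_.mul_comm (x ≫ g), _root_.mul_comm x y])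
  coc x y z := hi _ _ (by
    rw [MonObj.mul_comp, MonObj.mul_comp, h, h, h, h]
    simp only [dl, _root_.mul_assoc x y z]
    generalize x ≫ g = a; generalize y ≫ g = b; generalize z ≫ g = c
    generalize (x * y) ≫ g = e; generalize (y * z) ≫ g = e'; generalize (x * (y * z)) ≫ g = w
    apply Additive.ofMul.injective
    simp only [ofMul_mul, ofMul_inv]
    abel)

theorem isSymCoc_cn : IsSymCoc (cn p k n) := isSymCoc_of_comp _ (pad p k n) (fun _ _ => cancel_V _) fun x y => cn_spec x y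

theorem isSymCoc_dn : IsSymCoc (dn p k n) := isSymCoc_of_comp _ (tm p k (n + 1)) (fun _ _ => cancel_V _) fun x y => dn_spec x y

end Groth.Agent.WittExt23
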