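import Groth.Agent.Lib.WittExt23.Carry
import Groth.Agent.Lib.WittHom23.Subgroup

/-!
# Symmetric cocycles between `W_n` and `W_1`
-/

set_option autoImplicit false

universe u

open CategoryTheory AlgebraicGeometry MonObj MonoidalCategory CartesianMonoidalCategory
open Groth.Agent.WittHom23

noncomputable section

namespace Groth.Agent.WittExt23

variable {p : ℕ} [hp : Fact p.Prime] {k : Type u} [Field k] [CharP k p] {n m : ℕ}

variable (p k) in
/-- The Frobenius polynomial endomorphisms. -/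
abbrev L (n : ℕ) (s : Finset ℕ) (a : ℕ → k) : Wk p k n ⟶ Wk p k n :=
  WittHom23.lift p (B k) (natCast_base p k) n s a

instance isMonHom_L (n : ℕ) (s : Finset ℕ) (a : ℕ → k) : IsMonHom (L p k n s a) :=
  isMonHom_lift p (B k) (natCast_base p k) s a

theorem V_comp_V {a b c : ℕ} (h1 : a ≤ b) (h2 : b ≤ c) (h : a ≤ c) :
    WittGrp.V p (Spec (B k)) h1 ≫ WittGrp.V p (Spec (B k)) h2 = WittGrp.V p (Spec (B k)) h :=
  eq_of_comp_eq fun T x => vec_injective (by
    rw [← Category.assoc, vec_V h2 (x ≫ WittGrp.V p (Spec (B k)) h1), vec_V h1 x, vec_V h x, shift_shift])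

theorem V_comp_R_eq_one {l : ℕ} (h : n ≤ m) (h' : l ≤ m) (hl : l ≤ m - n) {T : Over (Spec (B k))} (x : T ⟶ Wk p k n) :
    (x ≫ WittGrp.V p (Spec (B k)) h) ≫ WittGrp.R p (Spec (B k)) h' = 1 :=
  vec_injective (TruncatedWittVector.ext fun i => by
    rw [vec_R, vec_V h x, vec_one, TruncatedWittVector.coeff_truncate, WittGrp.coeff_shift,
      dif_neg (by simp; omega), TruncatedWittVector.coeff_zero])

theorem V_comp_R' {a b : ℕ} (h : a ≤ b) :
    WittGrp.R p (Spec (B k)) h ≫ WittGrp.V p (Spec (B k)) (Nat.le_add_right a 1) =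
      WittGrp.V p (Spec (B k)) (Nat.le_add_right b 1) ≫ WittGrp.R p (Spec (B k)) (Nat.add_le_add_right h 1) :=
  eq_of_comp_eq fun T x => vec_injective (TruncatedWittVector.ext fun i => by
    rw [← Category.assoc, ← Category.assoc, vec_V (Nat.le_add_right a 1) (x ≫ WittGrp.R p (Spec (B k)) h), vec_R, vec_R,
      vec_V, TruncatedWittVector.coeff_truncate, WittGrp.coeff_shift, WittGrp.coeff_shift]
    simp only [Fin.val_castLE, TruncatedWittVector.coeff_truncate]
    split_ifs <;> first | rfl | omega | (congr 1; exact Fin.ext (by simp)))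

section pairs

variable {X Y Z : Over (Spec (B k))}

theorem pair_ext {f g : X ⊗ X ⟶ Y} (h : ∀ {T : Over (Spec (B k))} (x y : T ⟶ X), lift x y ≫ f = lift x y ≫ g) : f = g := by
  simpa using h (fst X X) (snd X X)

variable [GrpObj X] [GrpObj Y] [IsCommMonObj Y] [GrpObj Z] [IsCommMonObj Z]

/-- The coboundary. -/
def cob (g : X ⟶ Y) : X ⊗ X ⟶ Y := dl g (fst X X) (snd X X)

theorem lift_cob {T : Over (Spec (B k))} (g : X ⟶ Y) (x y : T ⟶ X) : lift x y ≫ cob g = dl g x y := by
  rw [cob, comp_dl, lift_fst, lift_snd]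

variable [IsCommMonObj X]

theorem IsSymCoc.mul {f f' : X ⊗ X ⟶ Y} (hf : IsSymCoc f) (hf' : IsSymCoc f') : IsSymCoc (f * f') where
  symm x y := by rw [MonObj.comp_mul, MonObj.comp_mul, hf.symm, hf'.symm]
  coc x y z := by
    simp only [MonObj.comp_mul]
    rw [_root_.mul_mul_mul_comm, hf.coc, hf'.coc, _root_.mul_mul_mul_comm]

omit [IsCommMonObj X] in
theorem IsSymCoc.inv {f : X ⊗ X ⟶ Y} (hf : IsSymCoc f) : IsSymCoc f⁻¹ where
  symm x y := by rw [GrpObj.comp_inv, GrpObj.comp_inv, hf.symm]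
  coc x y z := by simp only [GrpObj.comp_inv, ← mul_inv, hf.coc]

omit [IsCommMonObj X] in
theorem IsSymCoc.comp_hom {f : X ⊗ X ⟶ Y} (hf : IsSymCoc f) (h : Y ⟶ Z) [IsMonHom h] : IsSymCoc (f ≫ h) where
  symm x y := by rw [← Category.assoc, ← Category.assoc, hf.symm]
  coc x y z := by simp only [← Category.assoc, ← MonObj.mul_comp, hf.coc]

theorem isSymCoc_cob (g : X ⟶ Y) : IsSymCoc (cob g) :=
  isSymCoc_of_comp (𝟙 Y) g (fun a b h => by simpa using h) fun x y => by rw [Category.comp_id, lift_cob]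

/-- Pullback of a pair function. -/
def pb {X' : Over (Spec (B k))} (h : X' ⟶ X) (f : X ⊗ X ⟶ Y) : X' ⊗ X' ⟶ Y := lift (fst X' X' ≫ h) (snd X' X' ≫ h) ≫ f

omit [GrpObj X] [GrpObj Y] [IsCommMonObj Y] [IsCommMonObj X] in
theorem lift_pb {X' T : Over (Spec (B k))} (h : X' ⟶ X) (f : X ⊗ X ⟶ Y) (x y : T ⟶ X') :
    lift x y ≫ pb h f = lift (x ≫ h) (y ≫ h) ≫ f := by
  rw [pb, ← Category.assoc, comp_lift, lift_fst_assoc, lift_snd_assoc]

omit [IsCommMonObj X] [IsCommMonObj Y] in
theorem IsSymCoc.pb {X' : Over (Spec (B k))} [GrpObj X'] {f : X ⊗ X ⟶ Y} (hf : IsSymCoc f) (h : X' ⟶ X) [IsMonHom h] :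
    IsSymCoc (WittExt23.pb h f) where
  symm x y := by rw [lift_pb, lift_pb, hf.symm]
  coc x y z := by simp only [lift_pb, MonObj.mul_comp, hf.coc]

theorem IsSymCoc.one_left {f : X ⊗ X ⟶ Y} (hf : IsSymCoc f) {T : Over (Spec (B k))} (z : T ⟶ X) :
    lift 1 z ≫ f = lift 1 1 ≫ f := by
  have := hf.coc (1 : T ⟶ X) 1 z
  rw [_root_.one_mul, _root_.one_mul] at this
  exact (mul_right_cancel this).symm

end pairs

section head

/-- The coordinate of a point of `W_1`. -/
abbrev hd {T : Over (Spec (B k))} (x : T ⟶ Wk p k 1) : Γ(T.left, ⊤) := (vec x).coeff 0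

theorem hd_mul {T : Over (Spec (B k))} (x y : T ⟶ Wk p k 1) : hd (x * y) = hd x + hd y := by
  show (vec (x * y)).coeff 0 = _
  rw [vec_mul]
  exact coeff_zero_add p _ _

theorem hd_injective {T : Over (Spec (B k))} : Function.Injective (hd : (T ⟶ Wk p k 1) → _) := fun x y h =>
  vec_injective (TruncatedWittVector.ext fun i => by fin_cases i; exact h)

theorem hd_inv {T : Over (Spec (B k))} (x : T ⟶ Wk p k 1) : hd x⁻¹ = - hd x := by
  have h0 : hd (1 : T ⟶ Wk p k 1) = 0 := by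
    show (vec (1 : T ⟶ Wk p k 1)).coeff 0 = 0
    rw [vec_one, TruncatedWittVector.coeff_zero]
  have := hd_mul x x⁻¹
  rw [mul_inv_cancel, h0] at this
  exact eq_neg_of_add_eq_zero_right this.symm

theorem hd_comp {T' T : Over (Spec (B k))} (g : T' ⟶ T) (x : T ⟶ Wk p k 1) : hd (g ≫ x) = g.left.appTop.hom (hd x) := by
  show (vec (g ≫ x)).coeff 0 = _
  rw [vec_comp, WittGrp.coeff_truncMap]

theorem charP_or (T : Over (Spec (B k))) : Subsingleton Γ(T.left, ⊤) ∨ CharP Γ(T.left, ⊤) p := by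
  rcases subsingleton_or_nontrivial Γ(T.left, ⊤) with h | h
  · exact Or.inl h
  · exact Or.inr ((CharP.charP_iff_prime_eq_zero hp.out).mpr (WittGrp.natCast_eq_zero_of_over p (natCast_base p k) T))

theorem hd_L {T : Over (Spec (B k))} (s : Finset ℕ) (a : ℕ → k) (x : T ⟶ Wk p k 1) :
    hd (x ≫ L p k 1 s a) = ∑ j ∈ s, const (B k) T (a j) * hd x ^ p ^ j := by
  show coeff0 p (vec (x ≫ L p k 1 s a)) = _
  rw [vec_lift, map_sum]
  refine Finset.sum_congr rfl fun j _ => ?_
  refine (coeff_zero_mul p _ _).trans ?_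
  rw [coeff_teich, coeff_frob_iterate]
  rfl

theorem hd_cn_one {T : Over (Spec (B k))} (x y : T ⟶ Wk p k 1) : hd (lift x y ≫ cn p k 1) = - bS p (hd x) (hd y) := by
  have h := congrArg (fun z => (vec z).coeff (1 : Fin 2)) (cn_spec x y)
  simp only [dl, vec_mul, vec_inv, pad_one, vec_tm] at h
  rw [vec_V _ (lift x y ≫ cn p k 1), WittGrp.coeff_shift, dif_pos (by simp), ← sub_eq_add_neg] at h
  rw [show teich p 2 ((vec x).coeff 0) + teich p 2 ((vec y).coeff 0) - teich p 2 (TruncatedWittVector.coeff (p := p) (0 : Fin 1) (vec x + vec y)) =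
    WittVector.truncate 2 (WittVector.teichmuller p (hd x) + WittVector.teichmuller p (hd y) - WittVector.teichmuller p (hd x + hd y)) by
      rw [map_sub, map_add, coeff_zero_add]; rfl, WittVector.coeff_truncate] at h
  refine Eq.trans ?_ (h.trans (coeff_one_carry p (hd x) (hd y)))
  exact congrArg (fun i : Fin 1 => (vec (lift x y ≫ cn p k 1)).coeff i) (Subsingleton.elim _ _)

theorem dn_one : dn p k 1 = cn p k 1 :=
  pair_ext fun x y => cancel_V (Nat.le_add_left 1 1) (by
    rw [cn_spec, pad_one]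
    exact dn_spec x y)

theorem poly_ext (p : ℕ) [Fact p.Prime] [CharP k p] {l : ℕ} {P Q : MvPolynomial (Fin l) k}
    (h : ∀ (T : Over (Spec (B k))) (v : Fin l → Γ(T.left, ⊤)),
      MvPolynomial.eval₂ (const (B k) T) v P = MvPolynomial.eval₂ (const (B k) T) v Q) : P = Q := by
  refine MvPolynomial.rename_injective (ULift.up.{u}) ULift.up_injective ?_
  have := congrArg (toPoly p l (B k)) (h (WittGrp.W p l (Spec (B k))) (fun i => WittGrp.coord p i))
  simp only [MvPolynomial.eval₂_comp_left] at this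
  have e1 : (toPoly p l (B k)).comp (const (B k) (WittGrp.W p l (Spec (B k)))) = MvPolynomial.C :=
    RingHom.ext fun c => toPoly_const' p (B k) c
  have e2 : (⇑(toPoly p l (B k)) ∘ fun i : Fin l => WittGrp.coord p i) = fun i => MvPolynomial.X (ULift.up i) :=
    funext fun i => toPoly_coord p l (B k) i
  rw [e1, e2] at this
  have hr : ∀ R : MvPolynomial (Fin l) k, MvPolynomial.eval₂ MvPolynomial.C
      (fun i => MvPolynomial.X (ULift.up.{u} i)) R = MvPolynomial.rename ULift.up R := fun R => by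
    induction R using MvPolynomial.induction_on with
    | C a => simp
    | add a b ha hb => simp [ha, hb]
    | mul_X a i ha => simp [ha]
  rw [hr, hr] at this
  exact this

variable (p k) in
/-- The endomorphism given by a polynomial. -/
def polyHom (G : Polynomial k) : Wk p k 1 ⟶ Wk p k 1 :=
  ofVec (TruncatedWittVector.mk p fun _ => G.eval₂ (const (B k) _) (hd (𝟙 (Wk p k 1))))

theorem hd_polyHom {T : Over (Spec (B k))} (G : Polynomial k) (x : T ⟶ Wk p k 1) :
    hd (x ≫ polyHom p k G) = G.eval₂ (const (B k) T) (hd x) := by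
  rw [hd_comp]
  conv_lhs => rw [hd, polyHom, vec_ofVec, TruncatedWittVector.coeff_mk, Polynomial.hom_eval₂]
  rw [show x.left.appTop.hom.comp (const (B k) _) = const (B k) T from RingHom.ext fun c => const_comp (B k) x c,
    ← hd_comp, Category.comp_id]

/-- A pair of coordinates. -/
def pairPt {T : Over (Spec (B k))} (x y : T ⟶ Wk p k 1) : T ⟶ Wk p k 2 :=
  ofVec (TruncatedWittVector.mk p ![hd x, hd y])

theorem exists_poly (f : Wk p k 1 ⊗ Wk p k 1 ⟶ Wk p k 1) : ∃ F : MvPolynomial (Fin 2) k,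
    ∀ {T : Over (Spec (B k))} (x y : T ⟶ Wk p k 1),
      hd (lift x y ≫ f) = MvPolynomial.eval₂ (const (B k) T) ![hd x, hd y] F := by
  let Ψ : Wk p k 2 ⟶ Wk p k 1 ⊗ Wk p k 1 :=
    lift (ofVec (TruncatedWittVector.mk p fun _ => (vec (𝟙 (Wk p k 2))).coeff 0))
      (ofVec (TruncatedWittVector.mk p fun _ => (vec (𝟙 (Wk p k 2))).coeff 1))
  refine ⟨MvPolynomial.rename ULift.down (toPoly p 2 (B k) (hd (Ψ ≫ f))), fun {T} x y => ?_⟩
  have hΨ : pairPt x y ≫ Ψ = lift x y := by
    rw [comp_lift]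
    have : ∀ j : Fin 2, hd (pairPt x y ≫ ofVec (TruncatedWittVector.mk p fun _ => (vec (𝟙 (Wk p k 2))).coeff j)) = ![hd x, hd y] j := by
      intro j
      rw [hd_comp]
      conv_lhs => rw [hd, vec_ofVec, TruncatedWittVector.coeff_mk]
      rw [← WittGrp.coeff_truncMap, ← vec_comp, Category.comp_id, pairPt, vec_ofVec, TruncatedWittVector.coeff_mk]
    exact congrArg₂ lift (hd_injective (this 0)) (hd_injective (this 1))
  rw [← hΨ, Category.assoc, hd_comp, appTop_eq_eval₂, MvPolynomial.eval₂_rename]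
  refine congrArg (fun g => MvPolynomial.eval₂ _ g _) (funext fun i => ?_)
  rw [pairPt, vec_ofVec, TruncatedWittVector.coeff_mk]
  rfl

theorem eval₂_aeval {l r : ℕ} {A : Type u} [CommRing A] (φ : k →+* A) (v : Fin l → A) (g : Fin r → MvPolynomial (Fin l) k)
    (P : MvPolynomial (Fin r) k) :
    MvPolynomial.eval₂ φ v (MvPolynomial.aeval g P) =
      MvPolynomial.eval₂ φ (fun i => MvPolynomial.eval₂ φ v (g i)) P := by
  rw [← MvPolynomial.coe_eval₂Hom, MvPolynomial.map_aeval]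
  rw [show (MvPolynomial.eval₂Hom φ v).comp (algebraMap k (MvPolynomial (Fin l) k)) = φ from
    RingHom.ext fun c => MvPolynomial.eval₂Hom_C φ v c]
  rfl

theorem eval₂_polyAeval {l : ℕ} {A : Type u} [CommRing A] (φ : k →+* A) (v : Fin l → A) (t : MvPolynomial (Fin l) k)
    (G : Polynomial k) :
    MvPolynomial.eval₂ φ v (Polynomial.aeval t G) = G.eval₂ φ (MvPolynomial.eval₂ φ v t) := by
  rw [← MvPolynomial.coe_eval₂Hom, Polynomial.aeval_def, Polynomial.hom_eval₂]
  rw [show (MvPolynomial.eval₂Hom φ v).comp (algebraMap k (MvPolynomial (Fin l) k)) = φ from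
    RingHom.ext fun c => MvPolynomial.eval₂Hom_C φ v c]

theorem classify_one (f : Wk p k 1 ⊗ Wk p k 1 ⟶ Wk p k 1) (hf : IsSymCoc f) :
    ∃ (s : Finset ℕ) (a : ℕ → k) (g : Wk p k 1 ⟶ Wk p k 1), f = (cn p k 1 ≫ L p k 1 s a) * cob g := by
  obtain ⟨F, hF⟩ := exists_poly f
  let pt {T : Over (Spec (B k))} (c : Γ(T.left, ⊤)) : T ⟶ Wk p k 1 := ofVec (TruncatedWittVector.mk p fun _ => c)
  have hpt : ∀ {T : Over (Spec (B k))} (c : Γ(T.left, ⊤)), hd (pt c) = c := fun c => by
    simp only [pt, hd, vec_ofVec, TruncatedWittVector.coeff_mk]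
  have hev : ∀ {T : Over (Spec (B k))} (a b : Γ(T.left, ⊤)),
      MvPolynomial.eval₂ (const (B k) T) ![a, b] F = hd (lift (pt a) (pt b) ≫ f) := fun a b => by rw [hF, hpt, hpt]
  have hs : GaDual.IsSymm2 F := by
    refine poly_ext p fun T v => ?_
    have key := congrArg hd (hf.symm (pt (v 1)) (pt (v 0)))
    rw [← hev, ← hev] at key
    rw [eval₂_aeval]
    convert key using 2 <;> first | rfl | (funext i; fin_cases i <;> simp)
  have hc : GaDual.IsCocycle F := by
    refine poly_ext p fun T v => ?_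
    have key := congrArg hd (hf.coc (pt (v 0)) (pt (v 1)) (pt (v 2)))
    rw [hd_mul, hd_mul, hF, hF, hF, hF, hd_mul, hd_mul] at key
    simp only [hpt] at key
    simp only [MvPolynomial.eval₂_sub, MvPolynomial.eval₂_add, MvPolynomial.eval₂_zero, eval₂_aeval]
    have e : ∀ (u w : MvPolynomial (Fin 3) k),
        (fun i => MvPolynomial.eval₂ (const (B k) T) v (![u, w] i)) =
          ![MvPolynomial.eval₂ (const (B k) T) v u, MvPolynomial.eval₂ (const (B k) T) v w] := fun u w => by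
      funext i; fin_cases i <;> rfl
    simp only [e, MvPolynomial.eval₂_add, MvPolynomial.eval₂_X]
    linear_combination -key
  have h := GaDual.lazard p F hs hc (F.totalDegree + 1) (Nat.lt_succ_self _)
  set D := F.totalDegree + 1
  set G := ∑ n ∈ Finset.range D, Polynomial.C (GaDual.gVal p F n) * Polynomial.X ^ n
  refine ⟨Finset.range D, fun j => - GaDual.rVal p F j, polyHom p k (-G), pair_ext fun {T} x y => hd_injective ?_⟩
  rw [hF, congrArg (MvPolynomial.eval₂ (const (B k) T) ![hd x, hd y]) h, MonObj.comp_mul, hd_mul, lift_cob, dl, hd_mul, hd_mul, hd_inv, hd_polyHom, hd_polyHom, hd_polyHom, hd_mul,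
    ← Category.assoc, hd_L, hd_cn_one, MvPolynomial.eval₂_add, MvPolynomial.eval₂_sum]
  rw [GaDual.cobdry, MvPolynomial.eval₂_sub, MvPolynomial.eval₂_sub, eval₂_polyAeval, eval₂_polyAeval, eval₂_polyAeval,
    MvPolynomial.eval₂_add, MvPolynomial.eval₂_X, MvPolynomial.eval₂_X]
  simp only [Matrix.cons_val_zero, Matrix.cons_val_one, Polynomial.eval₂_neg]
  rw [add_comm]
  congr 1
  · refine Finset.sum_congr rfl fun j _ => ?_
    rw [MvPolynomial.eval₂_mul, MvPolynomial.eval₂_C, map_neg]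
    rcases charP_or (p := p) T with hT | hT
    · exact Subsingleton.elim _ _
    rw [GaDual.basicSPow, eval₂_aeval, ← iterateFrobenius_def (R := Γ(T.left, ⊤)), map_neg, iterateFrobenius_def,
      bS_pow]
    rw [show (fun i => MvPolynomial.eval₂ (const (B k) T) ![hd x, hd y]
        (![(MvPolynomial.X 0 : MvPolynomial (Fin 2) k) ^ p ^ j, MvPolynomial.X 1 ^ p ^ j] i)) =
        ![hd x ^ p ^ j, hd y ^ p ^ j] by
      funext i; fin_cases i <;> simp [MvPolynomial.eval₂_pow]]
    rw [GaDual.basicS, MvPolynomial.eval₂_sum, neg_mul_neg]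
    congr 1
    rw [bS]
    refine Finset.sum_congr rfl fun i _ => ?_
    rw [← MvPolynomial.coe_eval₂Hom]
    simp
  · ring

end head

section step

variable [IsAlgClosed k]

omit [IsAlgClosed k] in
theorem eq_one_of_W0 {T : Over (Spec (B k))} (x : T ⟶ Wk p k 0) : x = 1 :=
  vec_injective (TruncatedWittVector.ext fun i => i.elim0)

omit [IsAlgClosed k] in
theorem pb_cn (m : ℕ) : pb (WittGrp.V p (Spec (B k)) (Nat.le_add_right m 1)) (cn p k (m + 1)) = cn p k m :=
  pair_ext fun x y => cancel_V (Nat.le_add_left 1 (m + 1)) (by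
    rw [lift_pb, cn_spec, ← dl_comp_left, V_comp_pad, ← dl_comp, ← cn_spec, Category.assoc, V_comp_V])

omit [IsAlgClosed k] in
theorem classify_cn : ∀ (n : ℕ) (f : Wk p k (n + 1) ⊗ Wk p k (n + 1) ⟶ Wk p k 1), IsSymCoc f →
    ∃ (s : Finset ℕ) (a : ℕ → k) (g : Wk p k (n + 1) ⟶ Wk p k 1), f = (cn p k (n + 1) ≫ L p k 1 s a) * cob g
  | 0, f, hf => classify_one f hf
  | n + 1, f, hf => by
    let m := n + 1
    let V := WittGrp.V p (Spec (B k)) (Nat.le_add_right m 1)
    let Rh := WittGrp.R p (Spec (B k)) (Nat.le_add_left 1 m)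
    let T0 : Wk p k 1 ⟶ Wk p k (m + 1) := tm p k (m + 1)
    have hTR : T0 ≫ Rh = 𝟙 _ := (tm_comp_R _).trans tm_one
    have hVR : ∀ {T : Over (Spec (B k))} (v : T ⟶ Wk p k m), (v ≫ V) ≫ Rh = 1 := fun v => V_comp_R_eq_one _ _ (by omega) v
    let π1 : Wk p k (m + 1) ⟶ Wk p k (m + 1) := 𝟙 _ * (Rh ≫ T0)⁻¹
    have hπ1 : ∀ {T : Over (Spec (B k))} (w : T ⟶ Wk p k (m + 1)), (w ≫ Rh ≫ T0) * (w ≫ π1) = w := fun w => by
      simp only [π1, MonObj.comp_mul, GrpObj.comp_inv, Category.comp_id, _root_.mul_comm w, mul_inv_cancel_left]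
    obtain ⟨σ, hσ⟩ : ∃ σ : Wk p k (m + 1) ⟶ Wk p k m, σ ≫ V = π1 :=
      exists_comp_V _ (Nat.le_add_left 1 m) (by omega) π1 (by
        show π1 ≫ Rh = 1
        rw [MonObj.mul_comp, GrpObj.inv_comp, Category.assoc, hTR, Category.comp_id, Category.id_comp, mul_inv_cancel])
    have hσV : ∀ {T : Over (Spec (B k))} (v : T ⟶ Wk p k m), (v ≫ V) ≫ σ = v := fun v => cancel_V (Nat.le_add_right m 1) (by
      show ((v ≫ V) ≫ σ) ≫ V = v ≫ V
      rw [Category.assoc, hσ, MonObj.comp_mul, GrpObj.comp_inv, Category.comp_id, ← Category.assoc, hVR, one_comp_tm,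
        inv_one, _root_.mul_one])
    obtain ⟨s, a, g, hg⟩ := classify_cn n (pb V f) (hf.pb V)
    let f1 := f * (cn p k (m + 1) ≫ L p k 1 s a)⁻¹ * (cob (σ ≫ g))⁻¹
    have hf1 : IsSymCoc f1 := (hf.mul (isSymCoc_cn.comp_hom _).inv).mul (isSymCoc_cob _).inv
    have hvan : ∀ {T : Over (Spec (B k))} (u v : T ⟶ Wk p k m), lift (u ≫ V) (v ≫ V) ≫ f1 = 1 := fun u v => by
      have e1 : lift (u ≫ V) (v ≫ V) ≫ f = (lift u v ≫ cn p k m ≫ L p k 1 s a) * dl g u v := by
        rw [← lift_pb, hg, MonObj.comp_mul, lift_cob]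
      have e2 : lift (u ≫ V) (v ≫ V) ≫ cn p k (m + 1) ≫ L p k 1 s a = lift u v ≫ cn p k m ≫ L p k 1 s a := by
        rw [← Category.assoc, ← lift_pb, pb_cn, Category.assoc]
      have e3 : dl (σ ≫ g) (u ≫ V) (v ≫ V) = dl g u v := by
        simp only [dl, ← MonObj.mul_comp, ← Category.assoc, hσV]
      simp only [f1, MonObj.comp_mul, GrpObj.comp_inv, lift_cob, e1, e2, e3]
      rw [_root_.mul_assoc, ← mul_inv, mul_inv_cancel]
    let h : Wk p k (m + 1) ⟶ Wk p k 1 := lift (Rh ≫ T0) π1 ≫ f1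
    let f2 := f1 * cob h
    have hf2 : IsSymCoc f2 := hf1.mul (isSymCoc_cob _)
    have h11 : ∀ (T : Over (Spec (B k))), lift (1 : T ⟶ Wk p k (m + 1)) 1 ≫ f1 = 1 := fun T => by
      have := hvan (1 : T ⟶ Wk p k m) 1
      rwa [MonObj.one_comp] at this
    have hπV : ∀ {T : Over (Spec (B k))} (w : T ⟶ Wk p k (m + 1)), w ≫ π1 = (w ≫ σ) ≫ V := fun w => by
      rw [Category.assoc, hσ]
    have hwV : ∀ {T : Over (Spec (B k))} (w : T ⟶ Wk p k (m + 1)) (v : T ⟶ Wk p k m),
        (w * (v ≫ V)) ≫ Rh = w ≫ Rh := fun w v => by rw [MonObj.mul_comp, hVR, _root_.mul_one]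
    have hz : ∀ {T : Over (Spec (B k))} (w : T ⟶ Wk p k (m + 1)) (v : T ⟶ Wk p k m), lift w (v ≫ V) ≫ f2 = 1 := by
      intro T w v
      have hhV : (v ≫ V) ≫ h = 1 := by
        simp only [h, comp_lift_assoc]
        rw [← Category.assoc (v ≫ V), hVR, one_comp_tm, hf1.one_left, h11]
      have hhw : (w * (v ≫ V)) ≫ h = (w ≫ h) * (lift w (v ≫ V) ≫ f1) := by
        have hc := hf1.coc (w ≫ Rh ≫ T0) (w ≫ π1) (v ≫ V)
        rw [hπ1, hπV w, hvan, _root_.mul_one] at hc
        simp only [h, comp_lift_assoc]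
        rw [← Category.assoc (w * (v ≫ V)), hwV, Category.assoc]
        have : (w * (v ≫ V)) ≫ π1 = (w ≫ π1) * (v ≫ V) := by
          simp only [π1, MonObj.comp_mul, GrpObj.comp_inv, Category.comp_id, ← Category.assoc, hwV]
          simp only [_root_.mul_comm, mul_left_comm]
          exact _root_.mul_assoc _ _ _
        rw [this, hπV w, ← hc, ← hπV w]
      rw [MonObj.comp_mul, lift_cob, dl, hhV, hhw, _root_.mul_one, mul_inv, mul_inv_cancel_left, mul_inv_cancel]
    have hred1 : ∀ {T : Over (Spec (B k))} (x y : T ⟶ Wk p k (m + 1)) (v : T ⟶ Wk p k m),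
        lift x (y * (v ≫ V)) ≫ f2 = lift x y ≫ f2 := fun x y v => by
      have hc := hf2.coc x y (v ≫ V)
      rw [hz, hz, _root_.mul_one, _root_.mul_one] at hc
      exact hc.symm
    have hred : ∀ {T : Over (Spec (B k))} (x y : T ⟶ Wk p k (m + 1)),
        lift x y ≫ f2 = lift (x ≫ Rh ≫ T0) (y ≫ Rh ≫ T0) ≫ f2 := fun x y => by
      conv_lhs => rw [← hπ1 y, hπV y, hred1, hf2.symm, ← hπ1 x, hπV x, hred1, hf2.symm]
    let f3 := pb T0 f2
    have hf3 : IsSymCoc f3 :=
      { symm := fun x y => by rw [lift_pb, lift_pb, hf2.symm]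
        coc := fun x y z => by
          simp only [f3, lift_pb]
          have e : ∀ {T : Over (Spec (B k))} (u w : T ⟶ Wk p k 1), ((u ≫ T0) * (w ≫ T0)) ≫ Rh ≫ T0 = (u * w) ≫ T0 := fun {T} u w => by
            rw [← Category.assoc, MonObj.mul_comp]
            simp only [Category.assoc, hTR, Category.comp_id]
          have e' : ∀ {T : Over (Spec (B k))} (u : T ⟶ Wk p k 1), (u ≫ T0) ≫ Rh ≫ T0 = u ≫ T0 := fun {T} u => by
            rw [Category.assoc, ← Category.assoc T0, hTR, Category.id_comp]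
          have hc := hf2.coc (x ≫ T0) (y ≫ T0) (z ≫ T0)
          rw [hred ((x ≫ T0) * (y ≫ T0)), hred (x ≫ T0) ((y ≫ T0) * (z ≫ T0)), e, e, e', e'] at hc
          exact hc }
    obtain ⟨s', a', g', hg'⟩ := classify_one f3 hf3
    let R2 := WittGrp.R p (Spec (B k)) (show 2 ≤ m + 1 by omega)
    obtain ⟨e, he⟩ : ∃ e : Wk p k (m + 1) ⟶ Wk p k 1,
        e ≫ WittGrp.V p (Spec (B k)) (Nat.le_add_left 1 1) = R2 * (Rh ≫ pad p k 1)⁻¹ :=
      exists_comp_V _ (Nat.le_add_right 1 1) (by omega) _ (by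
        rw [MonObj.mul_comp, GrpObj.inv_comp, Category.assoc, pad_comp_R, Category.comp_id]
        rw [show R2 ≫ WittGrp.R p (Spec (B k)) (Nat.le_add_right 1 1) = Rh from
          eq_of_comp_eq fun T x => vec_injective (by
            rw [← Category.assoc, vec_R, vec_R, vec_R]
            exact TruncatedWittVector.ext fun i => by simp only [TruncatedWittVector.coeff_truncate, Fin.castLE_castLE])]
        exact mul_inv_cancel Rh)
    have hc1 : ∀ {T : Over (Spec (B k))} (x y : T ⟶ Wk p k (m + 1)),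
        lift (x ≫ Rh) (y ≫ Rh) ≫ cn p k 1 = (dl e x y)⁻¹ := fun x y => cancel_V (Nat.le_add_left 1 1) (by
      rw [cn_spec, GrpObj.inv_comp, dl_comp, he, dl_mul, dl_inv, dl_of_hom R2, _root_.one_mul, inv_inv, dl_comp_left])
    refine ⟨s, a, (σ ≫ g) * h⁻¹ * (e ≫ L p k 1 s' a')⁻¹ * (Rh ≫ g'), pair_ext fun {T} x y => ?_⟩
    have key := hred x y
    rw [← Category.assoc x, ← Category.assoc y, ← lift_pb, show pb T0 f2 = f3 from rfl, hg'] at key
    simp only [MonObj.comp_mul, lift_cob] at key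
    rw [← dl_comp_left, ← Category.assoc (lift (x ≫ Rh) (y ≫ Rh)), hc1, GrpObj.inv_comp, dl_comp] at key
    simp only [f2, f1, MonObj.comp_mul, GrpObj.comp_inv, lift_cob] at key
    simp only [MonObj.comp_mul, lift_cob, dl_mul, dl_inv]
    generalize lift x y ≫ f = F at key ⊢
    generalize lift x y ≫ cn p k (m + 1) ≫ L p k 1 s a = C at key ⊢
    generalize dl (σ ≫ g) x y = G at key ⊢
    generalize dl h x y = H at key ⊢
    generalize (dl (e ≫ L p k 1 s' a') x y)⁻¹ = E at key ⊢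
    generalize dl (Rh ≫ g') x y = G' at key ⊢
    have : F = F * C⁻¹ * G⁻¹ * H * (C * G * H⁻¹) := by
      apply Additive.ofMul.injective; simp only [ofMul_mul, ofMul_inv]; abel
    rw [this, key]
    apply Additive.ofMul.injective; simp only [ofMul_mul, ofMul_inv]; abel

theorem classify_dn : ∀ (n : ℕ) (f : Wk p k 1 ⊗ Wk p k 1 ⟶ Wk p k n), IsSymCoc f →
    ∃ (s : Finset ℕ) (a : ℕ → k) (g : Wk p k 1 ⟶ Wk p k n), f = (dn p k n ≫ L p k n s a) * cob g
  | 0, f, _ => ⟨∅, 0, 1, (eq_one_of_W0 f).trans (eq_one_of_W0 _).symm⟩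
  | n + 1, f, hf => by
    let Rh := WittGrp.R p (Spec (B k)) (Nat.le_add_left 1 n)
    let T0 : Wk p k 1 ⟶ Wk p k (n + 1) := tm p k (n + 1)
    have hTR : T0 ≫ Rh = 𝟙 _ := (tm_comp_R _).trans tm_one
    obtain ⟨s, a, g, hg⟩ := classify_one (f ≫ Rh) (hf.comp_hom Rh)
    have hd1 : dn p k (n + 1) ≫ Rh = cn p k 1 := pair_ext fun x y => cancel_V (Nat.le_add_left 1 1) (by
      rw [cn_spec, pad_one, Category.assoc, Category.assoc,
        show Rh ≫ WittGrp.V p (Spec (B k)) (Nat.le_add_left 1 1) = _ from V_comp_R' (Nat.le_add_left 1 n),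
        ← Category.assoc, ← Category.assoc, Category.assoc (lift x y) (dn p k (n + 1)), ← Category.assoc (lift x y), dn_spec, dl_comp, tm_comp_R])
    let f1 := f * (dn p k (n + 1) ≫ L p k (n + 1) s a)⁻¹ * (cob (g ≫ T0))⁻¹
    have hf1R : f1 ≫ Rh = 1 := pair_ext fun x y => by
      have e : lift x y ≫ (dn p k (n + 1) ≫ L p k (n + 1) s a) ≫ Rh = lift x y ≫ cn p k 1 ≫ L p k 1 s a := by
        rw [Category.assoc, lift_comp_R, ← Category.assoc (dn p k (n + 1)), hd1]
      have e2 : lift x y ≫ cob (g ≫ T0) ≫ Rh = dl g x y := by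
        rw [← Category.assoc, lift_cob, dl_comp, Category.assoc, hTR, Category.comp_id]
      simp only [f1, MonObj.mul_comp, GrpObj.inv_comp, MonObj.comp_mul, GrpObj.comp_inv, e, e2, hg, lift_cob, MonObj.comp_one]
      rw [_root_.mul_assoc, ← mul_inv, mul_inv_cancel]
    obtain ⟨f', hf'⟩ := exists_comp_V (Nat.le_add_right n 1) (Nat.le_add_left 1 n) (by omega) f1 hf1R
    have hf'' : IsSymCoc f' := by
      have h1 : IsSymCoc (f' ≫ WittGrp.V p (Spec (B k)) (Nat.le_add_right n 1)) := by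
        rw [hf']; exact (hf.mul (isSymCoc_dn.comp_hom _).inv).mul (isSymCoc_cob _).inv
      exact { symm := fun x y => cancel_V (Nat.le_add_right n 1) (by rw [Category.assoc, Category.assoc, h1.symm])
              coc := fun x y z => cancel_V (Nat.le_add_right n 1) (by
                simp only [MonObj.mul_comp, Category.assoc]; exact h1.coc x y z) }
    obtain ⟨s', a', g', hg'⟩ := classify_dn n f' hf''
    choose b hb using fun j => exists_root (p := p) (k := k) (n + 1 - n) (a' j)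
    have hV := lift_comp_V p (B k) (natCast_base p k) s' a' b (Nat.le_add_right n 1) fun j _ => hb j
    refine ⟨s, a, (g ≫ T0) * ((tm p k (n + 1) ≫ L p k (n + 1) s' b) * (g' ≫ WittGrp.V p (Spec (B k)) (Nat.le_add_right n 1))),
      pair_ext fun {T} x y => ?_⟩
    have key : lift x y ≫ f1 = dl (tm p k (n + 1) ≫ L p k (n + 1) s' b) x y *
        dl (g' ≫ WittGrp.V p (Spec (B k)) (Nat.le_add_right n 1)) x y := by
      rw [← hf', hg', MonObj.mul_comp, MonObj.comp_mul, Category.assoc, hV, ← Category.assoc (dn p k n),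
        ← Category.assoc (lift x y) (cob g'), lift_cob, dl_comp, ← Category.assoc (lift x y),
        ← Category.assoc (lift x y) (dn p k n), dn_spec, dl_comp]
    simp only [f1, MonObj.comp_mul, GrpObj.comp_inv, lift_cob] at key
    simp only [MonObj.comp_mul, lift_cob, dl_mul]
    rw [← key]
    apply Additive.ofMul.injective; simp only [ofMul_mul, ofMul_inv]; abel

end step

end Groth.Agent.WittExt23
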